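import Cfsg.Agent.CoprimePair.Basic
import Cfsg.Agent.EvenPair.Exceptional.PlaneMinus
import Cfsg.Agent.EvenPair.Exceptional.CertMinus

/-!
A pair of vectors with trivial common stabiliser for a frame in odd characteristic.
-/

set_option autoImplicit false
set_option linter.style.haveILetI false

namespace CfsgLib.EvenPair

open CfsgLib.OddPair (IsIrr Frame)

/-- The frame case in odd characteristic. -/
theorem exists_pair {A V : Type} [Group A] [Finite A] [AddCommGroup V] [Finite V] [Nontrivial V]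
    [DistribMulAction A V] [FaithfulSMul A V] {p n : ℕ} [Fact p.Prime] (hp2 : p ≠ 2) (hexp : ∀ x : V, p • x = 0)
    (hcop : (Nat.card A).Coprime p) (hs : Group.IsSolvable A) (_IH : CfsgLib.CoprimePair.PairsBelow p n)
    (_hV : Nat.card V ≤ n + 1) (_hirr : IsIrr A V) (φ : Frame A V) (hFC : ¬ φ.F ≤ φ.C) :
    ∃ v w : V, ∀ a : A, a • v = v → a • w = w → a = 1 := by
  classical
  haveI := hs
  obtain ⟨x0, hx0⟩ := exists_ne (0 : V)
  have hp0 : (p : φ.K) = 0 := (smul_eq_zero.mp (by rw [Nat.cast_smul_eq_nsmul φ.K, hexp] :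
    (p : φ.K) • x0 = 0)).resolve_right hx0
  haveI : CharP φ.K p := (CharP.charP_iff_prime_eq_zero (Fact.out : p.Prime)).mpr hp0
  haveI : Fintype φ.K := Fintype.ofFinite _
  obtain ⟨k, -, hk⟩ := FiniteField.card φ.K p
  rw [← Nat.card_eq_fintype_card] at hk
  have h2 : (2 : φ.K) ≠ 0 := fun e => by
    have h : p ∣ 2 := (CharP.cast_eq_zero_iff φ.K p 2).mp (by exact_mod_cast e)
    exact hp2 ((Nat.prime_dvd_prime_iff_eq Fact.out Nat.prime_two).mp h)
  by_cases hQ : 7 ≤ Nat.card φ.K ∨ Odd (φ.C.relIndex φ.F)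
  · exact φ.exists_pair_generic h2 hQ
  simp only [not_or, not_le] at hQ
  have hp3 : 3 ≤ p := by
    have := (Fact.out : p.Prime).two_le
    omega
  have hk1 : (k : ℕ) = 1 := by
    by_contra h
    have hk2 : 2 ≤ (k : ℕ) := by
      have := k.pos
      omega
    have := Nat.pow_le_pow_right (show 1 ≤ p by omega) hk2
    rw [← hk] at this
    nlinarith [hQ.1]
  rw [hk1, pow_one] at hk
  have hp35 : p = 3 ∨ p = 5 := by
    rcases (show p = 3 ∨ p = 4 ∨ p = 5 ∨ p = 6 by omega) with h | h | h | h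
    · exact Or.inl h
    · exact absurd (h ▸ (Fact.out : p.Prime)) (by decide)
    · exact Or.inr h
    · exact absurd (h ▸ (Fact.out : p.Prime)) (by decide)
  have hsq : ∀ f ∈ φ.F, f ^ 2 ∈ φ.C := fun f hf => φ.sq_mem_C_small (by rw [hk]; exact hp35) hf
  have hneg : (-1 : φ.K) ≠ 1 := fun e => h2 (by linear_combination -e)
  obtain ⟨Zc, Zp, v0, hCZ, hZcp, hZp, hv0, heig, hcase⟩ := φ.exists_pivot hneg
  rcases hcase with ⟨heq, hno⟩ | ⟨j, s, hj, hs', hj2, hs2, l, m, ε, hjZ, hsZ, hl, hm, hle, hme, hsj, hε, hdec⟩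
  · refine absurd ?_ hFC
    intro f hf
    have hall : ∀ g ∈ φ.F, g ∈ Zp := fun g hg => hno g hg (hsq g hg)
    refine φ.center_eq.le ⟨hf, Subgroup.mem_centralizer_iff.mpr fun g hg => ?_⟩
    exact Subgroup.mem_centralizer_iff.mp (hZp.le (hall f hf)).2 g (heq ▸ hall g hg)
  rcases hε with rfl | ⟨rfl, hns⟩
  · exact φ.pair_plus hk hp35 hcop hsq Zc Zp v0 j s l m hCZ hZcp hZp hv0 heig hj hs' hjZ hsZ hl hm hle hme
      hsj h2 hdec
  · rcases hp35 with rfl | rfl
    · exact φ.pair_minus hk hcop hsq Zc Zp v0 j s l m hCZ hZcp hZp hv0 heig hj hs' hjZ hsZ hl hm hle hme hsj hns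
        hdec isCert_minus16
    · refine absurd ⟨2, ?_⟩ hns
      have h5 : (5 : φ.K) = 0 := by exact_mod_cast hp0
      linear_combination -h5

end CfsgLib.EvenPair
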