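import Cfsg.Agent.OddPair.Bounds

/-!
Pairs of vectors from the blocks of an abelian subgroup between the centre and the class-two
normal subgroup of a frame: the criterion.
-/

set_option autoImplicit false
set_option linter.style.haveILetI false

open scoped commutatorElement

namespace CfsgLib.OddPair.Frame

variable {A V : Type} [Group A] [Finite A] [AddCommGroup V] [Finite V] [Nontrivial V] [DistribMulAction A V]
variable (φ : Frame A V)

/-- The scalar of a central element. -/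
noncomputable def scal (c : A) (hc : c ∈ φ.C) : φ.K := ⟨endHom A V c, endHom_mem_ringOf hc⟩

theorem scal_smul (c : A) (hc : c ∈ φ.C) (x : V) : φ.scal c hc • x = c • x := rfl

/-- The action of an element on the scalars. -/
noncomputable def conjK (g : A) (r : φ.K) : φ.K := ⟨conjEnd g (r : AddMonoid.End V), conjEnd_mem_ringOf g r.2⟩

theorem smul_K (g : A) (r : φ.K) (x : V) : g • (r • x) = φ.conjK g r • (g • x) :=
  smul_apply_eq_conjEnd g (r : AddMonoid.End V) x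

theorem L_smul {t : A} (ht : t ∈ φ.L) (r : φ.K) (x : V) : t • (r • x) = r • (t • x) :=
  (φ.linRep ⟨t, ht⟩).map_smul r x

theorem smul_left_cancel' {r s : φ.K} {x : V} (hx : x ≠ 0) (h : r • x = s • x) : r = s :=
  smul_left_injective φ.K hx h

theorem L_eq_of_conjK {g : A} [FaithfulSMul A V] (h : ∀ r : φ.K, φ.conjK g r = r) : g ∈ φ.L :=
  Subgroup.mem_centralizer_iff.mpr fun c hc => eq_of_smul_eq_smul (α := V) fun x => by
    rw [mul_smul, mul_smul, ← φ.scal_smul c hc (g • x), ← φ.scal_smul c hc x, φ.smul_K, h]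

variable [FaithfulSMul A V]

theorem conjK_of_mem {g : A} (hg : g ∈ φ.L) (r : φ.K) : φ.conjK g r = r := by
  obtain ⟨x, hx⟩ := exists_ne (0 : V)
  refine φ.smul_left_cancel' (x := g • x) (fun e => hx ((smul_eq_zero_iff_eq g).mp e)) ?_
  rw [← φ.smul_K, φ.L_smul hg]

/-- Vectors with the same eigenvalues as `v` on `Zc`. -/
def InBlock (Zc : Subgroup A) (v y : V) : Prop :=
  ∀ z ∈ Zc, ∀ r : φ.K, z • v = r • v → z • y = r • y

theorem inBlock_self (Zc : Subgroup A) (v : V) : φ.InBlock Zc v v := fun _ _ _ h => h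

variable {φ}

omit [FaithfulSMul A V] in
theorem InBlock.add {Zc : Subgroup A} {v x y : V} (hx : φ.InBlock Zc v x) (hy : φ.InBlock Zc v y) :
    φ.InBlock Zc v (x + y) := fun z hz r h => by rw [smul_add, smul_add, hx z hz r h, hy z hz r h]

theorem InBlock.smul {Zc : Subgroup A} {v y : V} (hZ : Zc ≤ φ.L) (r : φ.K) (hy : φ.InBlock Zc v y) :
    φ.InBlock Zc v (r • y) := fun z hz s h => by
  rw [φ.L_smul (hZ hz), hy z hz s h, smul_comm]

variable (φ)

/-- Conjugation by elements of `F` preserves the subgroups between `C` and `F`. -/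
theorem conj_mem_of_between {Z : Subgroup A} (hCZ : φ.C ≤ Z) (hZF : Z ≤ φ.F) {t z : A} (ht : t ∈ φ.F) (hz : z ∈ Z) :
    t⁻¹ * z * t ∈ Z := by
  have h1 : t⁻¹ * z * t = z * ⁅z⁻¹, t⁻¹⁆ := by rw [commutatorElement_def]; group
  rw [h1]
  exact mul_mem hz (hCZ (φ.comm_mem _ (inv_mem (hZF hz)) _ (inv_mem ht)))

/-- The criterion, where the stabiliser is controlled on the pivot space after the blocks are. -/
theorem block_pair_gen [Group.IsSolvable A] (Zc Zp : Subgroup A) (v w0 : V)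
    (hCZ : φ.C ≤ Zc) (hZcp : Zc ≤ Zp) (hZp : Zp = φ.F ⊓ Subgroup.centralizer (Zc : Set A))
    (hv : v ≠ 0) (heig : ∀ z ∈ Zc, ∃ r : φ.K, z • v = r • v)
    (hne : ∀ n ∈ Zp, ∀ r : φ.K, n • v = r • v → n ∈ Zc)
    (hw0 : φ.InBlock Zc v w0)
    (hlin : ∀ g : A, g • v = v → g • w0 = w0 → g ∈ φ.L)
    [(Zp.subgroupOf φ.F).Normal]
    (S : Finset (φ.F ⧸ Zp.subgroupOf φ.F)) (hS1 : (1 : φ.F ⧸ Zp.subgroupOf φ.F) ∉ S)
    (rep : (φ.F ⧸ Zp.subgroupOf φ.F) → φ.F)
    (hrep : ∀ a, (rep a : φ.F ⧸ Zp.subgroupOf φ.F) = a)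
    (y : (φ.F ⧸ Zp.subgroupOf φ.F) → V) (hy0 : ∀ a ∈ S, y a ≠ 0)
    (hyW : ∀ a ∈ S, φ.InBlock Zc v (y a))
    (hrig : ∀ g : A, g • v = v → g • w0 = w0 → g ∈ φ.L →
      ∀ T : (φ.F ⧸ Zp.subgroupOf φ.F) ≃* (φ.F ⧸ Zp.subgroupOf φ.F),
        (∀ a, T a ∈ S ↔ a ∈ S) →
        (∀ a ∈ S, g • ((rep a : A) • y a) = (rep (T a) : A) • y (T a)) →
        (∀ a, (QuotientGroup.mk (⟨g * (rep a : A) * g⁻¹, φ.F_normal.conj_mem _ (rep a).2 g⟩ : φ.F) :
          φ.F ⧸ Zp.subgroupOf φ.F) = T a) →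
        T = MulEquiv.refl _ ∧ (∀ π ∈ Zp, g • (π • v) = π • v) ∧ ∀ a ∈ S, g • y a = y a)
    (hgen : Subgroup.closure (S : Set (φ.F ⧸ Zp.subgroupOf φ.F)) = ⊤)
    (hn : ∀ g : A, g • v = v → g • w0 = w0 → (∀ π ∈ Zp, g • (π • v) = π • v) →
      ∀ n : φ.F → A, (∀ t : φ.F, n t = (t : A)⁻¹ * (g * (t : A) * g⁻¹)) → (∀ t, n t ∈ Zp) → (∀ s t : φ.F, n (s * t) = (t : A)⁻¹ * n s * (t : A) * n t) →
      (∀ t : φ.F, (t : A) ∈ Zp → n t • v = v) → (∀ a ∈ S, n (rep a) • y a = y a) → ∀ t, n t ∈ Zc)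
    (hdet : ∀ ψ : (φ.F ⧸ Zp.subgroupOf φ.F) → φ.K, ψ 1 = 1 → (∀ a ∈ S, ψ a = 1) → (∀ a, ψ a ≠ 0) →
      (∀ a b c, ψ (a * b * c) * ψ a * ψ b * ψ c = ψ (a * b) * ψ (a * c) * ψ (b * c)) →
      ∀ a b, ψ (a * b) = ψ a * ψ b) :
    ∃ v w : V, ∀ g : A, g • v = v → g • w = w → g = 1 := by
  classical
  haveI := Fintype.ofFinite (φ.F ⧸ Zp.subgroupOf φ.F)
  have hZpF : Zp ≤ φ.F := hZp.le.trans inf_le_left
  have hZcF : Zc ≤ φ.F := hZcp.trans hZpF
  have hcomm : ∀ z ∈ Zc, ∀ π ∈ Zp, z * π = π * z := fun z hz π hπ =>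
    Subgroup.mem_centralizer_iff.mp (hZp.le hπ).2 z hz
  -- eigenvalues on translates
  have hmove : ∀ t ∈ φ.F, ∀ z ∈ Zc, ∀ r : φ.K, z • v = r • v → ∀ x, φ.InBlock Zc v x →
      ∀ hc : ⁅z, t⁆ ∈ φ.C, z • t • x = (φ.scal ⁅z, t⁆ hc * r) • t • x := by
    intro t ht z hz r hr x hx hc
    rw [mul_smul, φ.scal_smul, ← φ.L_smul (φ.F_le ht), ← hx z hz r hr, ← mul_smul, ← mul_smul, ← mul_smul]
    congr 1
    rw [commutatorElement_def]
    group
  have hcz : ∀ {z t : A}, z ∈ Zc → t ∈ φ.F → ⁅z, t⁆ ∈ φ.C := fun hz ht => φ.comm_mem _ (hZcF hz) _ ht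
  let D := φ.F ⧸ Zp.subgroupOf φ.F
  have hsep : ∀ a b : D, a ≠ b → ∃ (z : A) (hz : z ∈ Zc),
      φ.scal ⁅z, (rep a : A)⁆ (hcz hz (rep a).2) ≠ φ.scal ⁅z, (rep b : A)⁆ (hcz hz (rep b).2) := by
    intro a b hab
    by_contra h
    push Not at h
    refine hab ?_
    rw [← hrep a, ← hrep b, QuotientGroup.eq, Subgroup.mem_subgroupOf, hZp]
    refine ⟨φ.F.mul_mem (φ.F.inv_mem (rep a).2) (rep b).2, Subgroup.mem_centralizer_iff.mpr fun z hz => ?_⟩
    have e : ⁅z, (rep a : A)⁆ = ⁅z, (rep b : A)⁆ := eq_of_smul_eq_smul (α := V) fun x =>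
      congrArg (fun r : φ.K => r • x) (h z hz)
    have e2 : (rep a : A) * z⁻¹ * (rep a : A)⁻¹ = (rep b : A) * z⁻¹ * (rep b : A)⁻¹ := by
      calc (rep a : A) * z⁻¹ * (rep a : A)⁻¹ = z⁻¹ * ⁅z, (rep a : A)⁆ := by rw [commutatorElement_def]; group
        _ = z⁻¹ * ⁅z, (rep b : A)⁆ := by rw [e]
        _ = _ := by rw [commutatorElement_def]; group
    simp only [Subgroup.coe_mul, InvMemClass.coe_inv]
    calc z * ((rep a : A)⁻¹ * (rep b : A))
        = (rep a : A)⁻¹ * ((rep a : A) * z⁻¹ * (rep a : A)⁻¹)⁻¹ * (rep b : A) := by group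
      _ = (rep a : A)⁻¹ * (rep b : A) * z := by rw [e2]; group
  -- blocks are independent
  have hindep : ∀ (s : Finset D) (f : D → V),
      (∀ a ∈ s, ∀ z (hz : z ∈ Zc), ∀ r : φ.K, z • v = r • v →
        z • f a = (φ.scal ⁅z, (rep a : A)⁆ (hcz hz (rep a).2) * r) • f a) →
      ∑ a ∈ s, f a = 0 → ∀ a ∈ s, f a = 0 := by
    intro s
    induction s using Finset.strongInduction with
    | _ s ih =>
      intro f hf hsum a ha
      by_cases hs : s = {a}
      · rwa [hs, Finset.sum_singleton] at hsum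
      obtain ⟨b, hb, hba⟩ : ∃ b ∈ s, b ≠ a := by
        by_contra h
        push Not at h
        exact hs (Finset.eq_singleton_iff_unique_mem.mpr ⟨ha, h⟩)
      obtain ⟨z, hz, hne'⟩ := hsep a b hba.symm
      obtain ⟨r, hr⟩ := heig z hz
      have hr0 : r ≠ 0 := fun e => hv ((smul_eq_zero_iff_eq z).mp (by rw [hr, e, zero_smul]))
      let μ : D → φ.K := fun c => φ.scal ⁅z, (rep c : A)⁆ (hcz hz (rep c).2) * r
      have h1 : ∑ c ∈ s.erase b, (μ c - μ b) • f c = 0 := by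
        rw [Finset.sum_erase _ (by rw [sub_self, zero_smul])]
        have h2 : ∑ c ∈ s, μ c • f c = 0 := by
          have := congrArg (fun u => z • u) hsum
          simp only [Finset.smul_sum, smul_zero] at this
          exact (Finset.sum_congr rfl fun c hc => (hf c hc z hz r hr).symm).trans this
        simp only [sub_smul, Finset.sum_sub_distrib, h2, ← Finset.smul_sum, hsum, smul_zero, sub_zero]
      have h3 := ih (s.erase b) (Finset.erase_ssubset hb) (fun c => (μ c - μ b) • f c)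
        (fun c hc z' hz' r' hr' => by
          rw [φ.L_smul (φ.F_le (hZcF hz')), hf c (Finset.mem_of_mem_erase hc) z' hz' r' hr', smul_comm])
        h1 a (Finset.mem_erase.mpr ⟨hba.symm, ha⟩)
      exact (smul_eq_zero.mp h3).resolve_left (sub_ne_zero.mpr fun e => hne' (mul_right_cancel₀ hr0 e))
  -- classes of cosets
  have hsame : ∀ (t : φ.F) z (hz : z ∈ Zc),
      φ.scal ⁅z, (t : A)⁆ (hcz hz t.2) = φ.scal ⁅z, (rep (t : D) : A)⁆ (hcz hz (rep _).2) := by
    intro t z hz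
    have h : (t⁻¹ * rep (t : D) : φ.F) ∈ Zp.subgroupOf φ.F := QuotientGroup.eq.mp (hrep _).symm
    rw [Subgroup.mem_subgroupOf] at h
    have h2 := hcomm z hz _ h
    simp only [Subgroup.coe_mul, InvMemClass.coe_inv] at h2
    have h3 : ⁅z, (t : A)⁆ = ⁅z, (rep (t : D) : A)⁆ := by
      set u := ((rep (t : D) : φ.F) : A)
      calc ⁅z, (t : A)⁆ = z * (t : A) * z⁻¹ * (t : A)⁻¹ := commutatorElement_def _ _
        _ = z * (t : A) * ((t : A)⁻¹ * u) * z⁻¹ * u⁻¹ := by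
            rw [mul_assoc (z * (t : A)) ((t : A)⁻¹ * u) z⁻¹,
              show (t : A)⁻¹ * u * z⁻¹ = z⁻¹ * ((t : A)⁻¹ * u) by
                rw [eq_inv_mul_iff_mul_eq, ← mul_assoc, h2, mul_inv_cancel_right]]
            group
        _ = _ := by rw [commutatorElement_def]; group
    exact Subtype.ext (congrArg (endHom A V) h3)
  let f : D → V := fun a => if a = 1 then w0 else if a ∈ S then (rep a : A) • y a else 0
  have hf1 : f 1 = w0 := if_pos rfl
  have hfS : ∀ a ∈ S, f a = (rep a : A) • y a := fun a ha =>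
    (if_neg (fun e : a = 1 => hS1 (e ▸ ha))).trans (if_pos ha)
  have hf0 : ∀ a, a ≠ 1 → a ∉ S → f a = 0 := fun a h1 h2 => (if_neg h1).trans (if_neg h2)
  have hfblock : ∀ a, ∀ z (hz : z ∈ Zc), ∀ r : φ.K, z • v = r • v →
      z • f a = (φ.scal ⁅z, (rep a : A)⁆ (hcz hz (rep a).2) * r) • f a := by
    intro a z hz r hr
    by_cases h1 : a = 1
    · subst h1
      rw [hf1, hw0 z hz r hr]
      have h2 := hsame 1 z hz
      rw [QuotientGroup.mk_one] at h2
      rw [← h2, mul_smul, φ.scal_smul, OneMemClass.coe_one, commutatorElement_one_right, one_smul]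
    by_cases h2 : a ∈ S
    · rw [hfS a h2]
      exact hmove _ (rep a).2 z hz r hr _ (hyW a h2) _
    · rw [hf0 a h1 h2, smul_zero, smul_zero]
  refine ⟨v, ∑ a, f a, fun g hgv hgw => ?_⟩
  -- the stabiliser of `v` permutes blocks
  have hZg : ∀ h : A, h • v = v → ∀ z ∈ Zc, h * z * h⁻¹ ∈ Zc := by
    intro h hh
    intro z hz
    obtain ⟨r, hr⟩ := heig z hz
    have e : (h * z * h⁻¹) • v = φ.conjK h r • v := by
      rw [mul_smul, mul_smul, inv_smul_eq_iff.mpr hh.symm, hr, φ.smul_K, hh]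
    have hFz : h * z * h⁻¹ ∈ φ.F := φ.F_normal.conj_mem _ (hZcF hz) h
    by_cases hp : h * z * h⁻¹ ∈ Zp
    · exact hne _ hp _ e
    exfalso
    let u : φ.F := ⟨h * z * h⁻¹, hFz⟩
    have hu1 : (u : D) ≠ 1 := fun e1 => hp ((Subgroup.mem_subgroupOf).mp ((QuotientGroup.eq_one_iff u).mp e1))
    obtain ⟨z', hz', hne'⟩ := hsep (u : D) 1 hu1
    obtain ⟨r', hr'⟩ := heig z' hz'
    rw [← hsame _ z' hz', ← QuotientGroup.mk_one, ← hsame _ z' hz'] at hne'
    refine hne' ?_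
    have h3 := hmove _ hFz z' hz' r' hr' v (φ.inBlock_self Zc v) (hcz hz' hFz)
    have h4 : z' • (h * z * h⁻¹) • v = r' • (h * z * h⁻¹) • v := by
      rw [e, φ.L_smul (φ.F_le (hZcF hz')), hr', smul_comm]
    have h5 : (φ.scal ⁅z', (u : A)⁆ (hcz hz' u.2) * r') = r' :=
      φ.smul_left_cancel' (fun e1 => hv ((smul_eq_zero_iff_eq _).mp e1)) (h3.symm.trans h4)
    have hr0 : r' ≠ 0 := fun e1 => hv ((smul_eq_zero_iff_eq z').mp (by rw [hr', e1, zero_smul]))
    rw [mul_eq_right₀ hr0] at h5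
    rw [h5]
    refine Subtype.ext ?_
    show _ = endHom A V ⁅z', (1 : A)⁆
    rw [commutatorElement_one_right, map_one]
    rfl
  have hgi : g⁻¹ • v = v := inv_smul_eq_iff.mpr hgv.symm
  have hPg : ∀ h : A, h • v = v → ∀ π ∈ Zp, h * π * h⁻¹ ∈ Zp := by
    intro h hh π hπ
    rw [hZp] at hπ ⊢
    refine ⟨φ.F_normal.conj_mem _ hπ.1 h, Subgroup.mem_centralizer_iff.mpr fun z hz => ?_⟩
    have h1 := hZg h⁻¹ (inv_smul_eq_iff.mpr hh.symm) z hz
    have h2 := Subgroup.mem_centralizer_iff.mp hπ.2 _ h1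
    rw [inv_inv] at h2
    calc z * (h * π * h⁻¹) = h * (h⁻¹ * z * h * π) * h⁻¹ := by group
      _ = h * (π * (h⁻¹ * z * h)) * h⁻¹ := by rw [h2]
      _ = h * π * h⁻¹ * z := by group
  let cg : φ.F →* φ.F :=
    { toFun := fun t => ⟨g * (t : A) * g⁻¹, φ.F_normal.conj_mem _ t.2 g⟩
      map_one' := Subtype.ext (by simp)
      map_mul' := fun s t => Subtype.ext (by simp only [Subgroup.coe_mul]; group) }
  let Tm : D →* D := QuotientGroup.map (Zp.subgroupOf φ.F) (Zp.subgroupOf φ.F) cg fun t ht =>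
    Subgroup.mem_subgroupOf.mpr (hPg g hgv _ (Subgroup.mem_subgroupOf.mp ht))
  have hTinj : Function.Injective Tm := by
    rw [injective_iff_map_eq_one]
    intro a ha
    rw [← hrep a] at ha ⊢
    change ((cg (rep a) : φ.F) : D) = 1 at ha
    rw [QuotientGroup.eq_one_iff, Subgroup.mem_subgroupOf] at ha
    rw [QuotientGroup.eq_one_iff, Subgroup.mem_subgroupOf]
    have h1 := hPg g⁻¹ hgi _ ha
    rw [inv_inv] at h1
    have h2 : g⁻¹ * (g * (rep a : A) * g⁻¹) * g = rep a := by group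
    exact h2 ▸ h1
  let T : D ≃* D := MulEquiv.ofBijective Tm (Finite.injective_iff_bijective.mp hTinj)
  have hT : ∀ a, (QuotientGroup.mk (⟨g * (rep a : A) * g⁻¹, φ.F_normal.conj_mem _ (rep a).2 g⟩ : φ.F) : D) = T a :=
    fun a => by
      show _ = Tm a
      conv_rhs => rw [← hrep a]
      rfl
  have hWg : ∀ x, φ.InBlock Zc v x → φ.InBlock Zc v (g • x) := by
    intro x hx z hz r hr
    have h1 := hZg g⁻¹ hgi z hz
    rw [inv_inv] at h1
    have h2 : (g⁻¹ * z * g) • v = φ.conjK g⁻¹ r • v := by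
      rw [mul_smul, mul_smul, hgv, hr, φ.smul_K, hgi]
    have h3 := hx _ h1 _ h2
    rw [mul_smul, mul_smul] at h3
    have h4 := congrArg (fun u => g • u) h3
    simp only [smul_inv_smul] at h4
    rw [h4, φ.smul_K]
    congr 1
    refine Subtype.ext ?_
    show conjEnd g (conjEnd g⁻¹ (r : AddMonoid.End V)) = r
    rw [conjEnd_conjEnd, mul_inv_cancel, conjEnd_one]
  have hcomp : ∀ a, g • f a = f (T a) := by
    have hsum : ∑ b, (g • f (T.symm b) - f b) = 0 := by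
      rw [Finset.sum_sub_distrib]
      have h1 : ∑ b, g • f (T.symm b) = ∑ a, g • f a := Equiv.sum_comp T.symm.toEquiv (fun a => g • f a)
      rw [h1, ← Finset.smul_sum, hgw, sub_self]
    have hall := hindep Finset.univ (fun b => g • f (T.symm b) - f b) (fun b _ z hz r hr => by
      rw [smul_sub, smul_sub, hfblock b z hz r hr]
      congr 1
      by_cases h1 : T.symm b = 1
      · have hb : b = 1 := by
          have := congrArg T h1
          rwa [MulEquiv.apply_symm_apply, map_one] at this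
        subst hb
        rw [map_one, hf1, hWg w0 hw0 z hz r hr]
        have h2 := hsame 1 z hz
        rw [QuotientGroup.mk_one] at h2
        rw [← h2, mul_smul, φ.scal_smul, OneMemClass.coe_one, commutatorElement_one_right, one_smul]
      by_cases h2 : T.symm b ∈ S
      · rw [hfS _ h2]
        set t := (rep (T.symm b) : φ.F)
        have h3 : g • ((t : A) • y (T.symm b)) = (g * (t : A) * g⁻¹) • (g • y (T.symm b)) := by
          rw [mul_smul, mul_smul, inv_smul_smul]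
        rw [h3]
        have h4 := hmove _ (φ.F_normal.conj_mem _ t.2 g) z hz r hr _ (hWg _ (hyW _ h2)) (hcz hz (φ.F_normal.conj_mem _ t.2 g))
        rw [h4]
        have h5 := hsame ⟨g * (t : A) * g⁻¹, φ.F_normal.conj_mem _ t.2 g⟩ z hz
        rw [hT (T.symm b), MulEquiv.apply_symm_apply] at h5
        rw [← h5]
      · rw [hf0 _ h1 h2, smul_zero, smul_zero, smul_zero]) hsum
    intro a
    have h := hall (T a) (Finset.mem_univ _)
    simp only [MulEquiv.symm_apply_apply] at h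
    exact sub_eq_zero.mp h
  have hgw0 : g • w0 = w0 := by
    have := hcomp 1
    rwa [map_one, hf1] at this
  have hgL := hlin g hgv hgw0
  have hTS : ∀ a, T a ∈ S ↔ a ∈ S := by
    intro a
    by_cases h1 : a = 1
    · rw [h1, map_one]
    have h1' : T a ≠ 1 := fun e => h1 (T.injective (e.trans (map_one T).symm))
    constructor
    · intro h2
      by_contra h3
      have := hcomp a
      rw [hf0 a h1 h3, smul_zero, hfS _ h2] at this
      exact hy0 _ h2 ((smul_eq_zero_iff_eq _).mp this.symm)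
    · intro h2
      by_contra h3
      have := hcomp a
      rw [hf0 _ h1' h3, hfS _ h2] at this
      exact hy0 _ h2 ((smul_eq_zero_iff_eq _).mp ((smul_eq_zero_iff_eq _).mp this))
  obtain ⟨hT1, hfix, hy⟩ := hrig g hgv hgw0 hgL T hTS (fun a ha => by rw [← hfS a ha, hcomp a, hfS _ ((hTS a).mpr ha)]) hT
  have hfixf : ∀ a, g • f a = f a := fun a => by rw [hcomp a, hT1]; rfl
  -- the commutator with `g`
  let n : φ.F → A := fun t => (t : A)⁻¹ * (g * (t : A) * g⁻¹)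
  have hnP : ∀ t, n t ∈ Zp := by
    intro t
    have h1 : Tm (t : D) = (t : D) := DFunLike.congr_fun hT1 (t : D)
    change ((cg t : φ.F) : D) = (t : D) at h1
    rw [eq_comm, QuotientGroup.eq, Subgroup.mem_subgroupOf] at h1
    exact h1
  have hnπ : ∀ t : φ.F, (t : A) ∈ Zp → n t • v = v := by
    intro t ht
    show ((t : A)⁻¹ * (g * (t : A) * g⁻¹)) • v = v
    rw [mul_smul, mul_smul, mul_smul, hgi, hfix _ ht, inv_smul_smul]
  have hnmul : ∀ s t : φ.F, n (s * t) = (t : A)⁻¹ * n s * (t : A) * n t := fun s t => by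
    simp only [n, Subgroup.coe_mul]
    group
  have hZcn : ∀ t ∈ φ.F, ∀ z ∈ Zc, t⁻¹ * z * t ∈ Zc := fun t ht z hz => by
    have h1 : t⁻¹ * z * t = z * ⁅z⁻¹, t⁻¹⁆ := by rw [commutatorElement_def]; group
    rw [h1]
    exact mul_mem hz (hCZ (hcz (inv_mem hz) (inv_mem ht)))
  have hG : ∀ t, n t ∈ Zc := hn g hgv hgw0 hfix n (fun _ => rfl) hnP hnmul hnπ fun a ha => by
    have h2 := hfixf a
    rw [hfS a ha] at h2
    show ((rep a : A)⁻¹ * (g * (rep a : A) * g⁻¹)) • y a = y a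
    rw [mul_smul, mul_smul, mul_smul, inv_smul_eq_iff.mpr (hy a ha).symm, h2, inv_smul_smul]
  choose ψ hψ using fun t => heig (n t) (hG t)
  have hψ0 : ∀ t, ψ t ≠ 0 := fun t e => hv ((smul_eq_zero_iff_eq (n t)).mp (by rw [hψ, e, zero_smul]))
  let ε : φ.F → φ.F → φ.K := fun s t =>
    φ.scal ⁅(t : A)⁻¹, n s⁆ (φ.comm_mem _ (inv_mem t.2) _ (hZcF (hG s)))
  have hψmul : ∀ s t, ψ (s * t) = ε s t * ψ s * ψ t := by
    intro s t
    refine φ.smul_left_cancel' hv ?_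
    rw [← hψ, hnmul, show (t : A)⁻¹ * n s * (t : A) = ⁅(t : A)⁻¹, n s⁆ * n s by
      rw [commutatorElement_def]; group, mul_assoc (ε s t), mul_smul (ε s t), φ.scal_smul,
      mul_smul _ (n t), hψ t, mul_smul _ (n s), φ.L_smul (φ.F_le (hZcF (hG s))), hψ s, mul_smul (ψ s), smul_comm (ψ t)]
  have hεmul : ∀ s t u, ε s (t * u) = ε s t * ε s u := by
    intro s t u
    refine Subtype.ext ?_
    show endHom A V _ = endHom A V _ * endHom A V _
    rw [← map_mul, Subgroup.coe_mul]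
    congr 1
    have hc : ⁅(t : A)⁻¹, n s⁆ ∈ φ.C := φ.comm_mem _ (inv_mem t.2) _ (hZcF (hG s))
    have hu := φ.comm_C_L hc (φ.F_le (inv_mem u.2))
    have hd : ⁅(u : A)⁻¹, n s⁆ ∈ φ.C := φ.comm_mem _ (inv_mem u.2) _ (hZcF (hG s))
    rw [φ.C_comm _ hc _ hd]
    calc ⁅((t : A) * (u : A))⁻¹, n s⁆
        = (u : A)⁻¹ * ⁅(t : A)⁻¹, n s⁆ * (u : A) * ⁅(u : A)⁻¹, n s⁆ := by
          simp only [commutatorElement_def]; group
      _ = ⁅(t : A)⁻¹, n s⁆ * ⁅(u : A)⁻¹, n s⁆ := by rw [← hu, inv_mul_cancel_right]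
      _ = _ := φ.C_comm _ hc _ hd
  have hεπ : ∀ s t : φ.F, (t : A) ∈ Zp → ε s t = 1 := by
    intro s t ht
    refine Subtype.ext ?_
    show endHom A V _ = 1
    rw [commutatorElement_eq_one_iff_mul_comm.mpr (hcomm _ (hG s) _ (inv_mem ht)).symm, map_one]
  have hψπ : ∀ t : φ.F, (t : A) ∈ Zp → ψ t = 1 := fun t ht =>
    φ.smul_left_cancel' hv (by rw [← hψ, hnπ t ht, one_smul])
  let Ψ : D → φ.K := fun a => ψ (rep a)
  have hΨ : ∀ t : φ.F, Ψ (t : D) = ψ t := by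
    intro t
    have h := Subgroup.mem_subgroupOf.mp (QuotientGroup.eq.mp (hrep (t : D)).symm)
    show ψ (rep (t : D)) = ψ t
    conv_lhs => rw [show rep (t : D) = t * (t⁻¹ * rep (t : D)) by group]
    rw [hψmul, hεπ _ _ h, hψπ _ h, one_mul, mul_one]
  have hΨmul : ∀ a b, Ψ (a * b) = ε (rep a) (rep b) * Ψ a * Ψ b := fun a b => by
    conv_lhs => rw [← hrep a, ← hrep b, ← QuotientGroup.mk_mul, hΨ, hψmul]
  have hψS : ∀ a ∈ S, Ψ a = 1 := by
    intro a ha
    refine φ.smul_left_cancel' (hy0 a ha) ?_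
    rw [← hyW a ha _ (hG _) _ (hψ _), one_smul]
    have h2 := hfixf a
    rw [hfS a ha] at h2
    show ((rep a : A)⁻¹ * (g * (rep a : A) * g⁻¹)) • y a = y a
    rw [mul_smul, mul_smul, mul_smul, inv_smul_eq_iff.mpr (hy a ha).symm, h2, inv_smul_smul]
  have hquad : ∀ a b c, Ψ (a * b * c) * Ψ a * Ψ b * Ψ c = Ψ (a * b) * Ψ (a * c) * Ψ (b * c) := by
    intro a b c
    have e : Ψ (a * b * c) = ε (rep a) (rep b * rep c) * Ψ a * Ψ (b * c) := by
      conv_lhs => rw [mul_assoc, ← hrep a, ← hrep b, ← hrep c, ← QuotientGroup.mk_mul, ← QuotientGroup.mk_mul,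
        hΨ, hψmul]
      rw [← hΨ (rep b * rep c), QuotientGroup.mk_mul, hrep b, hrep c]
    rw [e, hεmul, hΨmul b c, hΨmul a b, hΨmul a c]
    ring
  have hΨ1 : Ψ 1 = 1 := by
    rw [← QuotientGroup.mk_one, hΨ]
    exact hψπ 1 (one_mem Zp)
  have hlinΨ := hdet Ψ hΨ1 hψS (fun a => hψ0 _) hquad
  have hε1 : ∀ s t, ε s t = 1 := by
    intro s t
    have h1 := hψmul s t
    rw [← hΨ (s * t), QuotientGroup.mk_mul, hlinΨ, hΨ, hΨ, mul_assoc, eq_comm,
      mul_eq_right₀ (mul_ne_zero (hψ0 s) (hψ0 t))] at h1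
    exact h1
  have hnC : ∀ t, n t ∈ φ.C := by
    intro t
    refine φ.center_eq.le ⟨hZcF (hG t), Subgroup.mem_centralizer_iff.mpr fun u hu => ?_⟩
    have h1 := congrArg Subtype.val (hε1 t ⟨u⁻¹, inv_mem hu⟩)
    have h2 : ⁅u, n t⁆ = 1 := eq_of_smul_eq_smul (α := V) fun x => by
      have h4 : ⁅(u⁻¹)⁻¹, n t⁆ • x = x := DFunLike.congr_fun h1 x
      rw [inv_inv] at h4
      rwa [one_smul]
    exact commutatorElement_eq_one_iff_mul_comm.mp h2
  have hgF : g ∈ φ.F := by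
    refine φ.mem_F_of_comm hgL fun u hu => ?_
    have h1 := φ.C_normal.conj_mem _ (hnC ⟨u, hu⟩) u
    rw [show ⁅g, u⁆ = u * n ⟨u, hu⟩ * u⁻¹ by simp only [n, commutatorElement_def]; group]
    exact h1
  have hgC : g ∈ φ.C := by
    have hgp : g ∈ Zc := by
      by_cases hp : g ∈ Zp
      · exact hne g hp 1 (hgv.trans (one_smul _ v).symm)
      exfalso
      obtain ⟨z, hz, hne'⟩ := hsep ((⟨g, hgF⟩ : φ.F) : D) 1
        (fun e => hp (Subgroup.mem_subgroupOf.mp ((QuotientGroup.eq_one_iff _).mp e)))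
      rw [← hsame _ z hz, ← QuotientGroup.mk_one, ← hsame _ z hz] at hne'
      obtain ⟨r, hr⟩ := heig z hz
      have h3 := hmove g hgF z hz r hr v (φ.inBlock_self Zc v) (hcz hz hgF)
      rw [hgv, hr] at h3
      have hr0 : r ≠ 0 := fun e1 => hv ((smul_eq_zero_iff_eq z).mp (by rw [hr, e1, zero_smul]))
      refine hne' ?_
      have h5 := φ.smul_left_cancel' hv h3
      rw [eq_comm, mul_eq_right₀ hr0] at h5
      rw [h5]
      refine Subtype.ext ?_
      show _ = endHom A V ⁅z, (1 : A)⁆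
      rw [commutatorElement_one_right, map_one]
      rfl
    refine φ.center_eq.le ⟨hgF, Subgroup.mem_centralizer_iff.mpr fun u hu => ?_⟩
    let M : Subgroup φ.F := (Subgroup.centralizer ({g} : Set A)).subgroupOf φ.F
    have hle : Zp.subgroupOf φ.F ≤ M := fun t ht => Subgroup.mem_subgroupOf.mpr
      (Subgroup.mem_centralizer_singleton_iff.mpr (hcomm g hgp _ (Subgroup.mem_subgroupOf.mp ht)).symm)
    have h1 : M.map (QuotientGroup.mk' (Zp.subgroupOf φ.F)) = ⊤ := by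
      refine top_unique (hgen.ge.trans ((Subgroup.closure_le _).mpr fun a ha => ?_))
      refine ⟨rep a, Subgroup.mem_subgroupOf.mpr (Subgroup.mem_centralizer_singleton_iff.mpr ?_), hrep a⟩
      obtain ⟨r, hr⟩ := heig g hgp
      have hr1 : r = 1 := φ.smul_left_cancel' hv (by rw [← hr, hgv, one_smul])
      have h3 := hmove _ (rep a).2 g hgp r hr _ (hyW a ha) (hcz hgp (rep a).2)
      rw [← hfS a ha, hfixf a, hr1, mul_one, φ.scal_smul] at h3
      have h4 : ⁅g, (rep a : A)⁆ = 1 := by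
        by_contra hc
        have := φ.eq_zero_of_fixed (hcz hgp (rep a).2) hc h3.symm
        rw [hfS a ha] at this
        exact hy0 a ha ((smul_eq_zero_iff_eq _).mp this)
      exact (commutatorElement_eq_one_iff_mul_comm.mp h4).symm
    have h2 : M = ⊤ := by
      have h3 := Subgroup.comap_map_eq_self (f := QuotientGroup.mk' (Zp.subgroupOf φ.F)) (H := M)
        (by rw [QuotientGroup.ker_mk']; exact hle)
      rw [h1, Subgroup.comap_top] at h3
      exact h3.symm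
    exact Subgroup.mem_centralizer_singleton_iff.mp
      (Subgroup.mem_subgroupOf.mp (h2 ▸ Subgroup.mem_top (⟨u, hu⟩ : φ.F)))
  by_contra hg1
  exact hv (φ.eq_zero_of_fixed hgC hg1 hgv)

/-- The general criterion. -/
theorem block_pair [Group.IsSolvable A] (Zc Zp : Subgroup A) (v w0 : V)
    (hCZ : φ.C ≤ Zc) (hZcp : Zc ≤ Zp) (hZp : Zp = φ.F ⊓ Subgroup.centralizer (Zc : Set A))
    (hv : v ≠ 0) (heig : ∀ z ∈ Zc, ∃ r : φ.K, z • v = r • v)
    (hne : ∀ n ∈ Zp, ∀ r : φ.K, n • v = r • v → n ∈ Zc)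
    (hw0 : φ.InBlock Zc v w0)
    (hlin : ∀ g : A, g • v = v → g • w0 = w0 → g ∈ φ.L)
    (hfix : ∀ g : A, g • v = v → g • w0 = w0 → ∀ π ∈ Zp, g • (π • v) = π • v)
    [(Zp.subgroupOf φ.F).Normal]
    (S : Finset (φ.F ⧸ Zp.subgroupOf φ.F)) (hS1 : (1 : φ.F ⧸ Zp.subgroupOf φ.F) ∉ S)
    (rep : (φ.F ⧸ Zp.subgroupOf φ.F) → φ.F)
    (hrep : ∀ a, (rep a : φ.F ⧸ Zp.subgroupOf φ.F) = a)
    (y : (φ.F ⧸ Zp.subgroupOf φ.F) → V) (hy0 : ∀ a ∈ S, y a ≠ 0)
    (hyW : ∀ a ∈ S, φ.InBlock Zc v (y a))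
    (hy : ∀ g : A, g • v = v → g • w0 = w0 → ∀ a ∈ S, g • y a = y a)
    (hrig : ∀ g : A, g • v = v → g • w0 = w0 → g ∈ φ.L →
      ∀ T : (φ.F ⧸ Zp.subgroupOf φ.F) ≃* (φ.F ⧸ Zp.subgroupOf φ.F),
        (∀ a, T a ∈ S ↔ a ∈ S) →
        (∀ a ∈ S, g • ((rep a : A) • y a) = (rep (T a) : A) • y (T a)) →
        (∀ a, (QuotientGroup.mk (⟨g * (rep a : A) * g⁻¹, φ.F_normal.conj_mem _ (rep a).2 g⟩ : φ.F) :
          φ.F ⧸ Zp.subgroupOf φ.F) = T a) →
        T = MulEquiv.refl _)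
    (hspan : Subgroup.closure {a | a ∈ S ∧ ∀ π ∈ Zp, π • y a = y a → π ∈ Zc} = ⊤)
    (hdet : ∀ ψ : (φ.F ⧸ Zp.subgroupOf φ.F) → φ.K, ψ 1 = 1 → (∀ a ∈ S, ψ a = 1) → (∀ a, ψ a ≠ 0) →
      (∀ a b c, ψ (a * b * c) * ψ a * ψ b * ψ c = ψ (a * b) * ψ (a * c) * ψ (b * c)) →
      ∀ a b, ψ (a * b) = ψ a * ψ b) :
    ∃ v w : V, ∀ g : A, g • v = v → g • w = w → g = 1 := by
  classical
  refine φ.block_pair_gen Zc Zp v w0 hCZ hZcp hZp hv heig hne hw0 hlin S hS1 rep hrep y hy0 hyW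
    (fun g h1 h2 h3 T h4 h5 h6 => ⟨hrig g h1 h2 h3 T h4 h5 h6, hfix g h1 h2, hy g h1 h2⟩)
    (top_unique (hspan.ge.trans (Subgroup.closure_mono fun a ha => ha.1))) (fun _ _ _ _ n _ hnP hnmul hnπ hfix' => ?_) hdet
  let G : Subgroup φ.F :=
    { carrier := {t | n t ∈ Zc}
      one_mem' := by
        have h1 := hnmul 1 1
        simp only [mul_one, OneMemClass.coe_one, inv_one, one_mul] at h1
        show n 1 ∈ Zc
        rw [left_eq_mul] at h1
        rw [h1]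
        exact one_mem _
      mul_mem' := fun {s t} hs ht => by
        show n (s * t) ∈ Zc
        rw [hnmul]
        exact mul_mem (φ.conj_mem_of_between hCZ (hZcp.trans (hZp.le.trans inf_le_left)) t.2 hs) ht
      inv_mem' := fun {t} ht => by
        show n t⁻¹ ∈ Zc
        have h1 := hnmul t t⁻¹
        have h0 : n 1 = 1 := by
          have h1 := hnmul 1 1
          simp only [mul_one, OneMemClass.coe_one, inv_one, one_mul] at h1
          exact left_eq_mul.mp h1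
        rw [mul_inv_cancel, h0, eq_comm, mul_eq_one_iff_eq_inv] at h1
        exact inv_mem_iff.mp (h1 ▸ φ.conj_mem_of_between hCZ (hZcp.trans (hZp.le.trans inf_le_left)) (t⁻¹).2 ht) }
  have hle : Zp.subgroupOf φ.F ≤ G := fun t ht =>
    hne _ (hnP t) 1 ((hnπ t (Subgroup.mem_subgroupOf.mp ht)).trans (one_smul _ v).symm)
  have h1 : G.map (QuotientGroup.mk' (Zp.subgroupOf φ.F)) = ⊤ := by
    refine top_unique (hspan.ge.trans ((Subgroup.closure_le _).mpr fun a ha => ?_))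
    exact ⟨rep a, ha.2 _ (hnP _) (hfix' a ha.1), hrep a⟩
  have h2 : G = ⊤ := by
    have h3 := Subgroup.comap_map_eq_self (f := QuotientGroup.mk' (Zp.subgroupOf φ.F)) (H := G)
      (by rw [QuotientGroup.ker_mk']; exact hle)
    rw [h1, Subgroup.comap_top] at h3
    exact h3.symm
  exact fun t => (h2 ▸ Subgroup.mem_top t : t ∈ G)

end CfsgLib.OddPair.Frame
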