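import Cfsg.Agent.EvenPair.Line.Sym
import Cfsg.Agent.EvenPair.Line.Scheme
import Cfsg.Agent.EvenPair.Line.Three

/-!
A pair of vectors with trivial stabiliser for a frame over three elements with a self-centralising
subgroup having a common eigenspace of dimension one.
-/

set_option autoImplicit false
set_option linter.style.haveILetI false

open scoped commutatorElement

namespace CfsgLib.OddPair.Frame

open CfsgLib.EvenPair

variable {A V : Type} [Group A] [Finite A] [AddCommGroup V] [Finite V] [Nontrivial V] [DistribMulAction A V]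
variable (φ : Frame A V) [FaithfulSMul A V] [Group.IsSolvable A]

/-- The index of `C` in a subgroup between `C` and `F` is that of its centraliser in `F`. -/
theorem relIndex_eq_centralizer (X : Subgroup A) (hXF : X ≤ φ.F) :
    φ.C.relIndex X = (φ.F ⊓ Subgroup.centralizer (X : Set A)).relIndex φ.F := by
  have h1 := φ.relIndex_centralizer_eq (M := X) (N := φ.F) (hXF.trans φ.F_le) φ.F_le fun m hm n hn =>
    φ.comm_mem m (hXF hm) n hn
  rw [φ.centralizer_F] at h1
  rw [h1, inf_comm, Subgroup.inf_relIndex_right]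

namespace LineConfig

variable {φ}
variable {M : Subgroup A} {x : V} (cf : LineConfig φ M x) (hK : Nat.card φ.K = 3) (hCM : φ.C ≤ M) (hMF : M ≤ φ.F)
variable (hM : φ.F ⊓ Subgroup.centralizer (M : Set A) = M)
variable (hx : x ≠ 0) (heig : ∀ z ∈ M, ∃ r : φ.K, z • x = r • x)
include cf hK hCM hMF hM hx heig

theorem card_M_Zc : cf.Zc.relIndex M = 4 := by
  classical
  have hmem : ∀ a b : Bool, cel a cf.j1 * cel b cf.j2 ∈ M := fun a b => mul_mem
    (by cases a <;> simp [cel, cf.j1M]) (by cases b <;> simp [cel, cf.j2M])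
  let f : cf.Zc × Bool × Bool → M := fun q =>
    ⟨(q.1 : A) * (cel q.2.1 cf.j1 * cel q.2.2 cf.j2), mul_mem q.1.2.1 (hmem _ _)⟩
  have hf : Function.Bijective f := by
    refine ⟨?_, fun μ => ?_⟩
    · rintro ⟨z, a, b⟩ ⟨z', a', b'⟩ e
      have e' : (z : A) * (cel a cf.j1 * cel b cf.j2) = (z' : A) * (cel a' cf.j1 * cel b' cf.j2) :=
        congrArg Subtype.val e
      obtain ⟨s, -, -, -, hs⟩ := cf.Zc_smul hK hx heig z.2
      obtain ⟨s', -, -, -, hs'⟩ := cf.Zc_smul hK hx heig z'.2
      have key : ∀ (z : A) (s a b : Bool), (∀ u, z • cf.Φ u = cf.Φ (Line.cnd s Neg.neg u)) →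
          (z * (cel a cf.j1 * cel b cf.j2)) • cf.Φ Line.v0 = cf.Φ (Line.ap (s, a, b, false, false) Line.v0) := by
        intro z s a b hz
        rw [mul_smul, mul_smul, cf.cel_smul hK (cf.j2_smul hK), cf.cel_smul hK (cf.j1_smul hK), hz]
        rfl
      have h := Line.ap_inj _ _ (cf.Φ_injective hK hx ((key z s a b hs).symm.trans (e' ▸ key z' s' a' b' hs')))
      simp only [Prod.mk.injEq] at h
      obtain ⟨-, rfl, rfl, -⟩ := h
      exact Prod.ext (Subtype.ext (mul_right_cancel e')) rfl
    · obtain ⟨z, a, b, hz, e⟩ := cf.decomp_M hK hMF μ.2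
      exact ⟨⟨⟨z, hz⟩, a, b⟩, Subtype.ext (by rw [e, mul_assoc])⟩
  have hcard := Nat.card_eq_of_bijective f hf
  rw [Nat.card_prod, Nat.card_prod, Nat.card_eq_fintype_card (α := Bool), Fintype.card_bool] at hcard
  have h2 := Subgroup.relIndex_mul_relIndex ⊥ cf.Zc M bot_le cf.Zc_le_M
  rw [Subgroup.relIndex_bot_left, Subgroup.relIndex_bot_left, ← hcard] at h2
  exact Nat.eq_of_mul_eq_mul_left Nat.card_pos h2

/-- The pair. -/
theorem exists_pair (hcop : (Nat.card A).Coprime 3)
    (hdim : ∀ y, φ.InBlock M x y → ∃ c : φ.K, y = c • x) :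
    ∃ v w : V, ∀ g : A, g • v = v → g • w = w → g = 1 := by
  classical
  by_cases hfull : φ.F ≤ cf.Zp
  · exact (cf.not_full hK hCM hMF hM hx heig hcop hdim hfull).elim
  have hCZc := cf.C_le_Zc hCM
  have hZcp := cf.Zc_le_Zp hMF hM
  have hZpF : cf.Zp ≤ φ.F := inf_le_left
  have hZcF : cf.Zc ≤ φ.F := hZcp.trans hZpF
  haveI := φ.pivot_normal cf.Zp (hCZc.trans hZcp) hZpF
  let D := φ.F ⧸ cf.Zp.subgroupOf φ.F
  have hcommD : ∀ a b : D, a * b = b * a := by
    intro a b
    induction a using QuotientGroup.induction_on with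
    | H s =>
      induction b using QuotientGroup.induction_on with
      | H t =>
        rw [← QuotientGroup.mk_mul, ← QuotientGroup.mk_mul, QuotientGroup.eq, Subgroup.mem_subgroupOf]
        have : ((((s * t)⁻¹ * (t * s) : φ.F)) : A) = ⁅(t : A)⁻¹, (s : A)⁻¹⁆ := by
          simp only [Subgroup.coe_mul, InvMemClass.coe_inv, commutatorElement_def]; group
        rw [this]
        exact hZcp (hCZc (φ.comm_mem _ (inv_mem t.2) _ (inv_mem s.2)))
  letI : CommGroup D := { (inferInstance : Group D) with mul_comm := hcommD }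
  have h2 : ∀ a : D, a * a = 1 := by
    intro a
    induction a using QuotientGroup.induction_on with
    | H t =>
      rw [← QuotientGroup.mk_mul, QuotientGroup.eq_one_iff, Subgroup.mem_subgroupOf, Subgroup.coe_mul]
      exact hZcp (hCZc (φ.sq_mem_C hK t.2))
  obtain ⟨f0, hf0, hf0p⟩ := SetLike.not_le_iff_exists.mp hfull
  haveI : Nontrivial D := ⟨⟨((⟨f0, hf0⟩ : φ.F) : D), 1, fun e =>
    hf0p (Subgroup.mem_subgroupOf.mp ((QuotientGroup.eq_one_iff _).mp e))⟩⟩
  obtain ⟨S, col, e0, hS1, he0, hcole0, hgen, hgen0, hone, hrigS, hdetS⟩ := Line.exists_scheme_two D h2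
  obtain ⟨hinv, hadm, hinv0, hsym⟩ := cf.exists_involution hK hCM hMF hM hx heig hcop
  let y : D → V := fun a => cf.Φ (Line.col hinv (col a))
  have hinj := cf.Φ_injective hK hx
  have hv0 := cf.v0_ne hK hCM hMF hM hx heig
  have hW : ∀ z ∈ cf.Zc, ∀ r : φ.K, z • cf.Φ Line.v0 = r • cf.Φ Line.v0 → ∀ u, z • cf.Φ u = r • cf.Φ u := by
    intro z hz r hr u
    obtain ⟨-, r', -, h, -⟩ := cf.Zc_smul hK hx heig hz
    rw [h u, φ.smul_left_cancel' hv0 (hr.symm.trans (h _))]
  have hblock : ∀ u, φ.InBlock cf.Zc (cf.Φ Line.v0) (cf.Φ u) := fun u z hz r hr => hW z hz r hr u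
  let rep : D → φ.F := fun a => a.out
  have hrep : ∀ a, (rep a : D) = a := fun a => QuotientGroup.out_eq' a
  refine φ.block_pair_gen cf.Zc cf.Zp (cf.Φ Line.v0) (cf.Φ Line.w0) hCZc hZcp rfl hv0
    (fun z hz => by
      obtain ⟨-, r, -, h, -⟩ := cf.Zc_smul hK hx heig hz
      exact ⟨r, h _⟩)
    (fun n hn r hr => cf.free hK hMF hM hx heig hn hr) (hblock _) (fun g _ _ => φ.line_mem_L hK g)
    S hS1 rep hrep y
    (fun a _ h => Line.col_ne hinv (col a) (hinj (h.trans (cf.Φ_zero hK).symm)))
    (fun a _ => hblock _) ?_ hgen ?_ (hdetS φ.K)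
  · intro g hgv hgw _ T hTS hTy hTc
    obtain ⟨k, hk, hmap⟩ := hsym g hgv hgw
    have hcol : ∀ a ∈ S, col (T a) = col a ∧ (col a = 2 → k = 0) := by
      intro a ha
      set t := (rep a : A) with ht
      set t' := (rep (T a) : A) with ht'
      have hπ : t'⁻¹ * (g * t * g⁻¹) ∈ cf.Zp := by
        have h := (hrep (T a)).trans (hTc a).symm
        rw [QuotientGroup.eq, Subgroup.mem_subgroupOf] at h
        exact h
      obtain ⟨e, he, -⟩ := cf.decomp hK hMF hM hx heig hπ
      have h1 : (t'⁻¹ * (g * t * g⁻¹)) • (g • y a) = y (T a) := by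
        rw [mul_smul, mul_smul, mul_smul, inv_smul_smul, hTy a ha, inv_smul_smul]
      have h2' : Line.ap e (Line.lin (Line.sym k) (Line.col hinv (col a))) = Line.col hinv (col (T a)) := by
        refine hinj ?_
        rw [← he, ← hmap]
        exact h1
      obtain ⟨h3, h4⟩ := Line.col_sep hinv hadm k hk _ _ e h2'
      exact ⟨h3.symm, fun h => h4 h hinv0⟩
    have hT1 := hrigS T hTS fun a ha => (hcol a ha).1
    have hk0 : k = 0 := (hcol e0 he0).2 hcole0
    have hfixW : ∀ u, g • cf.Φ u = cf.Φ u := fun u => by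
      rw [hmap, hk0]
      exact congrArg cf.Φ (lin_units u)
    refine ⟨hT1, fun π hπ => ?_, fun a _ => hfixW _⟩
    obtain ⟨e, he, -⟩ := cf.decomp hK hMF hM hx heig hπ
    rw [he, hfixW]
  · intro g hgv hgw hfixp n hndef hnP hnmul hnπ hfix' t
    have hnZp : ∀ t : φ.F, (t : A) ∈ cf.Zp → n t ∈ cf.Zc := fun t ht =>
      cf.free hK hMF hM hx heig (hnP t) (r := 1) ((hnπ t ht).trans (one_smul _ _).symm)
    let q := QuotientGroup.mk' φ.C
    have hqc : ∀ a ∈ φ.F, ∀ b ∈ φ.F, q a * q b = q b * q a := fun a ha b hb => by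
      refine commutatorElement_eq_one_iff_mul_comm.mp ?_
      rw [← map_commutatorElement]
      exact (QuotientGroup.eq_one_iff _).mpr (φ.comm_mem a ha b hb)
    have hqmul : ∀ s t : φ.F, q (n (s * t)) = q (n s) * q (n t) := by
      intro s t
      rw [hnmul, map_mul, map_mul, map_mul, map_inv, mul_assoc (q (t : A))⁻¹, hqc _ (hZpF (hnP s)) _ t.2,
        inv_mul_cancel_left]
    rcases hone with hD2 | ⟨e1, he1, hcole1, he01, hcole01⟩
    · -- two cosets: no element outside `F`
      have hXp : cf.Zp.relIndex φ.F = 2 := hD2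
      have hC2 : φ.C.relIndex cf.Zc = 2 := (φ.relIndex_eq_centralizer cf.Zc hZcF).trans hXp
      have h64 : φ.C.relIndex φ.F = 64 := by
        have hM8 : φ.C.relIndex M = 8 := by
          rw [← Subgroup.relIndex_mul_relIndex φ.C cf.Zc M hCZc cf.Zc_le_M, hC2,
            cf.card_M_Zc hK hCM hMF hM hx heig]
        have hFM : M.relIndex φ.F = 8 := by
          have := φ.relIndex_eq_centralizer M hMF
          rw [hM, hM8] at this
          exact this.symm
        rw [← Subgroup.relIndex_mul_relIndex φ.C M φ.F hCM hMF, hM8, hFM]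
      obtain ⟨z1, hz1, hxor⟩ := Subgroup.relIndex_eq_two_iff.mp hC2
      have hzc : ∀ z ∈ cf.Zc, q z = 1 ∨ q z = q z1⁻¹ := fun z hz => by
        rcases hxor z hz with ⟨h, -⟩ | ⟨h, -⟩
        · right
          rw [map_inv, eq_inv_iff_mul_eq_one, ← map_mul]
          exact (QuotientGroup.eq_one_iff _).mpr h
        · exact Or.inl ((QuotientGroup.eq_one_iff _).mpr h)
      set t0 := rep e0 with ht0
      have hgF : g ∈ φ.F := by
        refine φ.line_no_siegel hK hcop h64 g {1, z1⁻¹, n t0, n t0 * z1⁻¹} Finset.card_le_four fun f hf => ?_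
        have hcomm : q ⁅g, f⁆ = q (n ⟨f, hf⟩) := by
          have h1 : ⁅g, f⁆ = f * n ⟨f, hf⟩ * f⁻¹ := by rw [hndef, commutatorElement_def]; group
          rw [h1, map_mul, map_mul, hqc f hf _ (hZpF (hnP _)), map_inv, mul_inv_cancel_right]
        suffices h : ∃ τ ∈ ({1, z1⁻¹, n t0, n t0 * z1⁻¹} : Finset A), q τ = q (n ⟨f, hf⟩) by
          obtain ⟨τ, hτ, hτe⟩ := h
          exact ⟨τ, hτ, QuotientGroup.eq.mp (hτe.trans hcomm.symm)⟩
        by_cases hfp : f ∈ cf.Zp
        · rcases hzc _ (hnZp ⟨f, hf⟩ hfp) with h | h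
          · exact ⟨1, by simp, by rw [h, map_one]⟩
          · exact ⟨z1⁻¹, by simp, h.symm⟩
        · have hD : ((⟨f, hf⟩ : φ.F) : D) = (t0 : D) := by
            have ha : ((⟨f, hf⟩ : φ.F) : D) ≠ 1 := fun e =>
              hfp (Subgroup.mem_subgroupOf.mp ((QuotientGroup.eq_one_iff _).mp e))
            have hb : (t0 : D) ≠ 1 := fun e => hS1 (by
              have : e0 = 1 := (hrep e0).symm.trans e
              exact this ▸ he0)
            by_contra hne
            haveI := Fintype.ofFinite D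
            have hc3 : ({1, ((⟨f, hf⟩ : φ.F) : D), (t0 : D)} : Finset D).card = 3 := by
              simp [ha.symm, hb.symm, hne]
            have := Finset.card_le_univ ({1, ((⟨f, hf⟩ : φ.F) : D), (t0 : D)} : Finset D)
            rw [hc3, ← Nat.card_eq_fintype_card, hD2] at this
            omega
          have hπ : ((t0⁻¹ * ⟨f, hf⟩ : φ.F) : A) ∈ cf.Zp :=
            Subgroup.mem_subgroupOf.mp (QuotientGroup.eq.mp hD.symm)
          have he : q (n ⟨f, hf⟩) = q (n t0) * q (n (t0⁻¹ * ⟨f, hf⟩)) := by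
            rw [← hqmul, mul_inv_cancel_left]
          rcases hzc _ (hnZp _ hπ) with h | h
          · exact ⟨n t0, by simp, by rw [he, h, mul_one]⟩
          · exact ⟨n t0 * z1⁻¹, by simp, by rw [he, h, map_mul]⟩
      refine hCZc ?_
      have h1 : n t = ⁅(t : A)⁻¹, g⁆ := by rw [hndef, commutatorElement_def]; group
      rw [h1]
      exact φ.comm_mem _ (inv_mem t.2) _ hgF
    · let G : Subgroup φ.F :=
        { carrier := {t | n t ∈ cf.Zc}
          one_mem' := by
            show n 1 ∈ cf.Zc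
            exact hnZp 1 (one_mem _)
          mul_mem' := fun {s t} hs ht => by
            show n (s * t) ∈ cf.Zc
            rw [hnmul]
            exact mul_mem (φ.conj_mem_of_between hCZc hZcF t.2 hs) ht
          inv_mem' := fun {t} ht => by
            show n t⁻¹ ∈ cf.Zc
            have h1 := hnmul t t⁻¹
            rw [mul_inv_cancel] at h1
            have h0 := hnZp 1 (one_mem _)
            rw [h1] at h0
            exact (Subgroup.mul_mem_cancel_left cf.Zc
              (φ.conj_mem_of_between hCZc hZcF (t⁻¹).2 ht)).mp h0 }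
      have hle : cf.Zp.subgroupOf φ.F ≤ G := fun t ht => hnZp t (Subgroup.mem_subgroupOf.mp ht)
      have hfree0 : ∀ a ∈ S, col a = 0 → n (rep a) ∈ cf.Zc := fun a ha hc => by
        refine cf.free hK hMF hM hx heig (hnP _) (r := 1) ?_
        have := hfix' a ha
        simp only [y, hc, Line.col_zero] at this
        rw [this, one_smul]
      have hn0 : n (rep e0) ∈ cf.Zc := by
        set m := rep (e0 * e1) with hm
        have hπ : ((m⁻¹ * (rep e0 * rep e1) : φ.F) : A) ∈ cf.Zp := by
          refine Subgroup.mem_subgroupOf.mp (QuotientGroup.eq.mp ?_)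
          rw [hrep, QuotientGroup.mk_mul, hrep, hrep]
        have hq1 : q (n m) * q (n (m⁻¹ * (rep e0 * rep e1))) = q (n (rep e0)) * q (n (rep e1)) := by
          rw [← hqmul, ← hqmul, mul_inv_cancel_left]
        set z := n (rep e1) * (n (m⁻¹ * (rep e0 * rep e1)))⁻¹ with hz
        have hzZ : z ∈ cf.Zc := mul_mem (hfree0 e1 he1 hcole1) (inv_mem (hnZp _ hπ))
        have hq2 : q (n m) = q (n (rep e0) * z) := by
          rw [hz, map_mul, map_mul, map_inv, ← mul_assoc, ← hq1, mul_inv_cancel_right]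
        have hcmem : (n (rep e0) * z)⁻¹ * n m ∈ φ.C := QuotientGroup.eq.mp hq2.symm
        obtain ⟨e, he, hezero⟩ := cf.decomp hK hMF hM hx heig (hnP (rep e0))
        refine hezero (Line.col_stab hinv hadm e ?_ ?_)
        · have h1 := hfix' _ he01
          simp only [y, hcole01, ← hm] at h1
          obtain ⟨b, -, -, -, hb⟩ := cf.Zc_smul hK hx heig (mul_mem hzZ (hCZc hcmem))
          have h3 : n m = n (rep e0) * (z * ((n (rep e0) * z)⁻¹ * n m)) := by group
          rw [h3, mul_smul, hb, he] at h1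
          have h4 := hinj h1
          have hneg : ∀ (e : Line.E) (u : Line.W), Line.ap e (-u) = -Line.ap e u := by
            decide +kernel
          cases b
          · exact Or.inl h4
          · right
            have h5 : Line.ap e (-Line.col hinv 1) = Line.col hinv 1 := h4
            rw [hneg] at h5
            exact neg_eq_iff_eq_neg.mp h5
        · have h1 := hfix' _ he0
          simp only [y, hcole0, he] at h1
          exact hinj h1
      have hmap : G.map (QuotientGroup.mk' (cf.Zp.subgroupOf φ.F)) = ⊤ := by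
        refine top_unique (hgen0.ge.trans ((Subgroup.closure_le _).mpr fun a ha => ?_))
        refine ⟨rep a, ?_, hrep a⟩
        rcases ha with ⟨ha, hc⟩ | ha
        · exact hfree0 a ha hc
        · rw [Set.mem_singleton_iff.mp ha]; exact hn0
      have htop := Subgroup.comap_map_eq_self (f := QuotientGroup.mk' (cf.Zp.subgroupOf φ.F)) (H := G)
        (by rw [QuotientGroup.ker_mk']; exact hle)
      rw [hmap, Subgroup.comap_top] at htop
      exact (htop ▸ Subgroup.mem_top t : t ∈ G)

end LineConfig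

/-- The exceptional case over three elements with multiplicity one. -/
theorem exists_pair_line (hK : Nat.card φ.K = 3) (hcop : (Nat.card A).Coprime 3) (M : Subgroup A) (x : V)
    (hCM : φ.C ≤ M) (hMF : M ≤ φ.F) (hM : φ.F ⊓ Subgroup.centralizer (M : Set A) = M) (hx : x ≠ 0)
    (heig : ∀ z ∈ M, ∃ r : φ.K, z • x = r • x) (hdim : ∀ y, φ.InBlock M x y → ∃ c : φ.K, y = c • x) :
    ∃ v w : V, ∀ g : A, g • v = v → g • w = w → g = 1 := by
  rcases φ.exists_line_config hK M x hCM hMF hM hx heig with hMC | ⟨j, s, hj, hs, hjx, ha, hjj, hsmall⟩ | ⟨⟨cf⟩⟩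
  · refine ⟨x, 0, fun g hg _ => eq_of_smul_eq_smul (α := V) fun y => ?_⟩
    obtain ⟨c, rfl⟩ := hdim y fun z hz r hr => by
      rw [← φ.scal_smul z (hMC hz) y, φ.smul_left_cancel' hx ((φ.scal_smul z (hMC hz) x).trans hr)]
    rw [φ.line_smul hK, hg, one_smul]
  · refine ⟨x, s • x, fun g hgx hgs => eq_of_smul_eq_smul (α := V) fun y => ?_⟩
    rw [one_smul]
    -- fixed vectors of the involution are multiples of `x`
    have hP : ∀ w : V, j • w = w → ∃ c : φ.K, w = c • x := fun w hw => hdim w fun z hz r hr => by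
      have hjs : j ∈ φ.F := hMF hj
      rcases φ.comm_or_anti hK (hMF hz) hs with h | h
      · have hzC := hsmall z hz h
        rw [← φ.scal_smul z hzC w, φ.smul_left_cancel' hx ((φ.scal_smul z hzC x).trans hr)]
      · have h1 : s * (z * j) = z * j * s := φ.comm_of_anti_anti h.symm' ha.symm'
        have hzC := hsmall (z * j) (mul_mem hz hj) h1.symm
        have hzj : ∀ v : V, j • v = v → z • v = φ.scal (z * j) hzC • v := fun v hv => by
          rw [φ.scal_smul, mul_smul, hv]
        rw [hzj w hw, φ.smul_left_cancel' hx ((hzj x hjx).symm.trans hr)]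
    have hjjv : ∀ v : V, j • j • v = v := fun v => by rw [← mul_smul, hjj, one_smul]
    obtain ⟨c, hc⟩ := hP (y + j • y) (by rw [smul_add, hjjv, add_comm])
    obtain ⟨d, hd⟩ := hP (s⁻¹ • (y + -(j • y))) (by
      have h1 := ha (s⁻¹ • (y + -(j • y)))
      rw [smul_inv_smul, smul_add, smul_neg, hjjv, eq_neg_iff_add_eq_zero] at h1
      have h2 : s • (j • s⁻¹ • (y + -(j • y))) = y + -(j • y) := by
        rw [add_eq_zero_iff_neg_eq] at h1
        rw [← h1]; abel
      exact eq_inv_smul_iff.mpr h2)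
    rw [inv_smul_eq_iff, φ.line_smul hK] at hd
    have hy : y = -((y + j • y) + (y + -(j • y))) := by
      calc y = y - 3 • y := by rw [φ.line_nsmul hK, sub_zero]
        _ = _ := by abel
    rw [hy, smul_neg, smul_add g, hc, hd, φ.line_smul hK, φ.line_smul hK, hgx, hgs]
  · exact cf.exists_pair hK hCM hMF hM hx heig hcop hdim

end CfsgLib.OddPair.Frame
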