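import Mathlib

/-!
A coloured subset of a finite abelian group of squarefree exponent with trivial symmetry, on
which a quadratic function with values one is linear.
-/

set_option autoImplicit false

namespace CfsgLib.EvenPair

/-- An order preserving injection of a finite linear order within classes is the identity. -/
theorem eq_id_of_classMono {ι R : Type} [Finite ι] [LinearOrder ι] (r : ι → R) (π : ι → ι) (hinj : Function.Injective π)
    (hr : ∀ i, r (π i) = r i) (hmono : ∀ i j, r i = r j → i < j → π i < π j) : ∀ i, π i = i := by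
  intro i
  induction i using WellFoundedLT.induction with
  | _ i ih =>
    obtain ⟨j, hj⟩ := (Finite.injective_iff_surjective.mp hinj) i
    rcases lt_trichotomy j i with h | h | h
    · exact absurd ((ih j h).symm.trans hj) h.ne
    · exact h ▸ hj
    · have h1 := hmono i j (by rw [← hr j, hj]) h
      rw [hj] at h1
      exact absurd (hinj (ih _ h1)) h1.ne

/-- Coordinates of a finite abelian group of squarefree exponent. -/
theorem exists_coords (D : Type) [AddCommGroup D] [Finite D] (hsf : ∀ x : D, Squarefree (addOrderOf x)) :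
    ∃ (ι : Type) (_ : Fintype ι) (_ : LinearOrder ι) (r : ι → ℕ) (a : ι → D) (c : ∀ i, D →+ ZMod (r i))
      (k : ℕ) (b : Fin k → D) (d : Fin k → (D →+ ZMod 2)),
      (∀ i, (r i).Prime ∧ r i ≠ 2) ∧ (∀ i, r i • a i = 0) ∧ (∀ j, 2 • b j = 0) ∧
      (∀ i, c i (a i) = 1) ∧ (∀ i i', i ≠ i' → c i (a i') = 0) ∧ (∀ i j, c i (b j) = 0) ∧
      (∀ j, d j (b j) = 1) ∧ (∀ j j', j ≠ j' → d j (b j') = 0) ∧ (∀ j i, d j (a i) = 0) ∧
      AddSubgroup.closure (Set.range a ∪ Set.range b) = ⊤ := by
  classical
  obtain ⟨ι₀, hι, p, hp, e, ⟨f⟩⟩ := AddCommGroup.equiv_directSum_zmod_of_finite D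
  let g : ι₀ → D := fun i => f.symm (DirectSum.of (fun i => ZMod (p i ^ e i)) i 1)
  let co : ∀ i, D →+ ZMod (p i ^ e i) := fun i =>
    (DFinsupp.evalAddMonoidHom i).comp f.toAddMonoidHom
  have hco1 : ∀ i, co i (g i) = 1 := fun i => by
    show (f (g i)) i = 1
    rw [AddEquiv.apply_symm_apply, DirectSum.of_eq_same]
  have hco0 : ∀ i i', i ≠ i' → co i (g i') = 0 := fun i i' h => by
    show (f (g i')) i = 0
    rw [AddEquiv.apply_symm_apply, DirectSum.of_eq_of_ne _ _ _ h]
  have he : ∀ i, e i ≤ 1 := by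
    intro i
    by_contra h
    push Not at h
    have h1 : p i ^ e i ∣ addOrderOf (g i) := by
      have h2 : (addOrderOf (g i) : ZMod (p i ^ e i)) = 0 := by
        have := congrArg (co i) (addOrderOf_nsmul_eq_zero (g i))
        rwa [map_nsmul, hco1, map_zero, nsmul_one] at this
      exact (ZMod.natCast_eq_zero_iff _ _).mp h2
    exact (hp i).not_isUnit (hsf (g i) (p i) (dvd_trans ⟨p i ^ (e i - 2), by
      rw [← sq, ← pow_add]; congr 1; omega⟩ h1))
  let O := {i : ι₀ // e i = 1 ∧ p i ≠ 2}
  let T := {i : ι₀ // e i = 1 ∧ p i = 2}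
  letI : LinearOrder O := LinearOrder.lift' (Fintype.equivFin O) (Fintype.equivFin O).injective
  let u : Fin (Fintype.card T) ≃ T := (Fintype.equivFin T).symm
  have hpow : ∀ i : ι₀, e i = 1 → p i ^ e i = p i := fun i h => by rw [h, pow_one]
  have hord : ∀ i, e i = 1 → p i • g i = 0 := fun i h => by
    apply f.injective
    rw [map_nsmul, AddEquiv.apply_symm_apply, map_zero, ← map_nsmul]
    have : (p i • (1 : ZMod (p i ^ e i))) = 0 := by
      rw [nsmul_one, ZMod.natCast_eq_zero_iff, hpow i h]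
    rw [this, map_zero]
  let toP : ∀ i : ι₀, e i = 1 → (ZMod (p i ^ e i) →+* ZMod (p i)) := fun i h =>
    ZMod.castHom (by rw [hpow i h]) _
  let toT : ∀ j : T, (ZMod (p j.1 ^ e j.1) →+* ZMod 2) := fun j =>
    ZMod.castHom (by rw [hpow j.1 j.2.1, j.2.2]) _
  refine ⟨O, inferInstance, inferInstance, fun i => p i.1, fun i => g i.1,
    fun i => (toP i.1 i.2.1).toAddMonoidHom.comp (co i.1), Fintype.card T, fun j => g (u j).1,
    fun j => (toT (u j)).toAddMonoidHom.comp (co (u j).1), fun i => ⟨hp i.1, i.2.2⟩, fun i => hord _ i.2.1,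
    fun j => by simpa [(u j).2.2] using hord _ (u j).2.1, ?_, ?_, ?_, ?_, ?_, ?_, ?_⟩
  · intro i
    show toP i.1 i.2.1 (co i.1 (g i.1)) = 1
    rw [hco1, map_one]
  · intro i i' h
    show toP i.1 i.2.1 (co i.1 (g i'.1)) = 0
    rw [hco0 _ _ (fun h' => h (Subtype.ext h')), map_zero]
  · intro i j
    show toP i.1 i.2.1 (co i.1 (g (u j).1)) = 0
    rw [hco0 _ _ (fun h' : i.1 = (u j).1 => i.2.2 (by rw [h']; exact (u j).2.2)), map_zero]
  · intro j
    show toT (u j) (co (u j).1 (g (u j).1)) = 1
    rw [hco1, map_one]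
  · intro j j' h
    show toT (u j) (co (u j).1 (g (u j').1)) = 0
    rw [hco0 _ _ (fun h' => h (u.injective (Subtype.ext h'))), map_zero]
  · intro j i
    show toT (u j) (co (u j).1 (g i.1)) = 0
    rw [hco0 _ _ (fun h' : (u j).1 = i.1 => i.2.2 (by rw [← h']; exact (u j).2.2)), map_zero]
  · refine top_unique fun x _ => ?_
    suffices h : ∀ y, f.symm y ∈ AddSubgroup.closure
        (Set.range (fun i : O => g i.1) ∪ Set.range (fun j => g (u j).1)) by
      simpa using h (f x)
    intro y
    induction y using DirectSum.induction_on with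
    | zero => rw [map_zero]; exact zero_mem _
    | add y z hy hz => rw [map_add]; exact add_mem hy hz
    | of i z =>
      haveI : NeZero (p i ^ e i) := ⟨pow_ne_zero _ (hp i).ne_zero⟩
      rw [← ZMod.natCast_zmod_val z, ← nsmul_one, map_nsmul, map_nsmul]
      refine nsmul_mem ?_ _
      rcases Nat.le_one_iff_eq_zero_or_eq_one.mp (he i) with h | h
      · haveI : Subsingleton (ZMod (p i ^ e i)) := by rw [h, pow_zero]; infer_instance
        rw [Subsingleton.elim (1 : ZMod (p i ^ e i)) 0, map_zero, map_zero]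
        exact zero_mem _
      · refine AddSubgroup.subset_closure ?_
        by_cases h2 : p i = 2
        · exact Or.inr ⟨u.symm ⟨i, h, h2⟩, by simp [g]⟩
        · exact Or.inl ⟨⟨i, h, h2⟩, rfl⟩

/-- The coloured set. -/
theorem exists_scheme {D : Type} [AddCommGroup D] [Finite D] (hsf : ∀ x : D, Squarefree (addOrderOf x)) :
    ∃ (S : Finset D) (col : D → Fin 3), (0 : D) ∉ S ∧ (∀ x ∈ S, (addOrderOf x).Prime) ∧
      (∀ x ∈ S, addOrderOf x ≠ 2 → col x ≠ 2) ∧ AddSubgroup.closure {x | x ∈ S ∧ col x ≠ 2} = ⊤ ∧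
      (∀ T : D ≃+ D, (∀ x, T x ∈ S ↔ x ∈ S) → (∀ x ∈ S, col (T x) = col x) → T = AddEquiv.refl D) ∧
      ∀ (K : Type) [Field K] (ψ : D → K), ψ 0 = 1 → (∀ x ∈ S, ψ x = 1) → (∀ x, ψ x ≠ 0) →
        (∀ x y z, ψ (x + y + z) * ψ x * ψ y * ψ z = ψ (x + y) * ψ (x + z) * ψ (y + z)) →
        ∀ x y, ψ (x + y) = ψ x * ψ y := by
  classical
  obtain ⟨ι, _, _, r, a, c, k, b, d, hr, hra, hb2, hca, hca0, hcb, hdb, hdb0, hda, hgen⟩ := exists_coords D hsf
  let SA : Finset D := Finset.univ.image a
  let SA2 : Finset D := Finset.univ.image fun i => 2 • a i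
  let SP : Finset D := ((Finset.univ : Finset (ι × ι)).filter fun q => q.1 < q.2 ∧ r q.1 = r q.2).image
    fun q => a q.1 + 2 • a q.2
  let SB : Finset D := Finset.univ.image b
  let SBP : Finset D := ((Finset.univ : Finset (Fin k × Fin k)).filter fun q => q.1 < q.2).image
    fun q => b q.1 + b q.2
  let C0 : D → Prop := fun x => x ∈ SA ∨ ∃ j : Fin k, ((j : ℕ) ≠ 0 ∨ k = 1) ∧ x = b j
  let C1 : D → Prop := fun x => x ∈ SA2 ∨ x ∈ SP ∨ ∃ i j : Fin k, (j : ℕ) = i + 1 ∧ x = b i + b j
  let col : D → Fin 3 := fun x => if C0 x then 0 else if C1 x then 1 else 2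
  let S : Finset D := SA ∪ SA2 ∪ SP ∪ SB ∪ SBP
  have mem_S : ∀ x, x ∈ S ↔ (∃ i, x = a i) ∨ (∃ i, x = 2 • a i) ∨ (∃ i j, i < j ∧ r i = r j ∧ x = a i + 2 • a j) ∨
      (∃ j, x = b j) ∨ ∃ i j, i < j ∧ x = b i + b j := by
    intro x
    simp only [S, SA, SA2, SP, SB, SBP, Finset.mem_union, Finset.mem_image, Finset.mem_filter, Finset.mem_univ,
      true_and, Prod.exists, or_assoc]
    constructor <;>
      rintro (⟨i, h⟩ | ⟨i, h⟩ | ⟨i, j, h⟩ | ⟨j, h⟩ | ⟨i, j, h⟩) <;>
      simp_all [eq_comm]
    all_goals first | grind | tauto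
  haveI : ∀ i, Fact (r i).Prime := fun i => ⟨(hr i).1⟩
  have h2ne : ∀ i, (2 : ZMod (r i)) ≠ 0 := fun i h => by
    have h' : ((2 : ℕ) : ZMod (r i)) = 0 := by exact_mod_cast h
    rw [ZMod.natCast_eq_zero_iff] at h'
    exact (hr i).2 ((Nat.prime_dvd_prime_iff_eq (hr i).1 Nat.prime_two).mp h')
  have h21 : ∀ i, (2 : ZMod (r i)) ≠ 1 := fun i h => one_ne_zero (α := ZMod (r i)) (by
    linear_combination h)
  have hc2 : ∀ i j, c i (2 • a j) = 2 * c i (a j) := fun i j => by rw [map_nsmul, nsmul_eq_mul, Nat.cast_ofNat]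
  -- elements of order two have no odd coordinates
  have hc_two : ∀ x : D, 2 • x = 0 → ∀ i, c i x = 0 := fun x hx i => by
    have := congrArg (c i) hx
    rw [map_nsmul, map_zero, nsmul_eq_mul, Nat.cast_ofNat] at this
    exact (mul_eq_zero.mp this).resolve_left (h2ne i)
  have hane : ∀ i, a i ≠ 0 := fun i h => one_ne_zero (α := ZMod (r i)) (by rw [← hca i, h, map_zero])
  have hbne : ∀ j, b j ≠ 0 := fun j h => one_ne_zero (α := ZMod 2) (by rw [← hdb j, h, map_zero])
  have haord : ∀ i, addOrderOf (a i) = r i := fun i => addOrderOf_eq_prime (hra i) (hane i)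
  -- shapes
  have hA_ne : ∀ i j, a i ≠ 2 • a j := by
    intro i j h
    have := congrArg (c i) h
    rw [hca, hc2] at this
    by_cases e : i = j
    · subst e; rw [hca, mul_one] at this; exact h21 i this.symm
    · rw [hca0 i j e, mul_zero] at this; exact one_ne_zero this
  have hA_nP : ∀ i l m, l < m → a i ≠ a l + 2 • a m := by
    intro i l m hlm h
    have := congrArg (c m) h
    rw [map_add, hc2, hca, hca0 m l hlm.ne', zero_add, mul_one] at this
    by_cases e : m = i
    · subst e; rw [hca] at this; exact h21 m this.symm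
    · rw [hca0 m i e] at this; exact h2ne m this.symm
  have hA_B : ∀ i x, 2 • x = 0 → a i ≠ x := fun i x hx h => one_ne_zero (α := ZMod (r i)) (by
    rw [← hca i, h]; exact hc_two x hx i)
  have hbb2 : ∀ i j, 2 • (b i + b j) = 0 := fun i j => by rw [nsmul_add, hb2, hb2, add_zero]
  have hP2 : ∀ l m, l < m → 2 • (a l + 2 • a m) ≠ 0 := fun l m hlm h => one_ne_zero (α := ZMod (r l)) (by
    have := hc_two _ h l
    rw [map_add, hca, hc2, hca0 l m hlm.ne, mul_zero, add_zero] at this
    exact this)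
  have hA22 : ∀ i, 2 • (2 • a i) ≠ 0 := fun i h => h2ne i (by
    have := hc_two _ h i
    rwa [hc2, hca, mul_one] at this)
  have hB_BP : ∀ l i j, i ≠ j → b l ≠ b i + b j := by
    intro l i j hij h
    by_cases e : l = i
    · subst e
      have := congrArg (d j) h
      rw [map_add, hdb0 j l hij.symm, hdb, zero_add] at this
      exact zero_ne_one this
    · have := congrArg (d i) h
      rw [map_add, hdb, hdb0 i l (Ne.symm e), hdb0 i j hij, add_zero] at this
      exact zero_ne_one this
  have hBP_inj : ∀ i j i' j', i < j → i' < j' → b i + b j = b i' + b j' → i = i' ∧ j = j' := by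
    intro i j i' j' hij hij' h
    have key : ∀ l, (d l (b i + b j) = 1) → l = i ∨ l = j := fun l hl => by
      by_contra hh
      push Not at hh
      rw [map_add, hdb0 l i hh.1, hdb0 l j hh.2, add_zero] at hl
      exact zero_ne_one hl
    have h1 := key i' (by rw [h, map_add, hdb, hdb0 i' j' hij'.ne, add_zero])
    have h2 := key j' (by rw [h, map_add, hdb, hdb0 j' i' hij'.ne', zero_add])
    omega
  have hbinj : Function.Injective b := fun i j h => by
    by_contra e
    have := congrArg (d i) h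
    rw [hdb, hdb0 i j e] at this
    exact one_ne_zero this
  have hainj : Function.Injective a := fun i j h => by
    by_contra e
    have := congrArg (c i) h
    rw [hca, hca0 i j e] at this
    exact one_ne_zero this
  have hC0 : ∀ x, C0 x ↔ (∃ i, x = a i) ∨ ∃ j : Fin k, ((j : ℕ) ≠ 0 ∨ k = 1) ∧ x = b j := fun x => by
    simp [C0, SA, eq_comm]
  have hC1 : ∀ x, C1 x ↔ (∃ i, x = 2 • a i) ∨ (∃ l m, l < m ∧ r l = r m ∧ x = a l + 2 • a m) ∨
      ∃ i j : Fin k, (j : ℕ) = i + 1 ∧ x = b i + b j := fun x => by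
    simp [C1, SA2, SP, eq_comm, and_assoc]
  have hC10 : ∀ x, C1 x → ¬ C0 x := by
    intro x h1 h0
    rw [hC1] at h1; rw [hC0] at h0
    rcases h1 with ⟨i, rfl⟩ | ⟨l, m, hlm, -, rfl⟩ | ⟨i, j, hij, rfl⟩ <;> rcases h0 with ⟨s, hs⟩ | ⟨t, -, ht⟩
    · exact hA_ne s i hs.symm
    · exact hA22 i (by rw [ht, hb2])
    · exact hA_nP s l m hlm hs.symm
    · exact hP2 l m hlm (by rw [ht, hb2])
    · exact hA_B s _ (hbb2 i j) hs.symm
    · exact hB_BP t i j (fun e => by rw [e] at hij; omega) ht.symm
  refine ⟨S, col, ?_, ?_, ?_, ?_, ?_, ?_⟩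
  · intro h
    rcases (mem_S 0).mp h with ⟨i, e⟩ | ⟨i, e⟩ | ⟨i, j, hij, -, e⟩ | ⟨j, e⟩ | ⟨i, j, hij, e⟩
    · exact hane i e.symm
    · exact hA22 i (by rw [← e, smul_zero])
    · exact hP2 i j hij (by rw [← e, smul_zero])
    · exact hbne j e.symm
    · have e' : b i = b j := by
        rw [eq_comm, add_eq_zero_iff_eq_neg] at e
        rw [e, neg_eq_iff_add_eq_zero, ← two_nsmul, hb2]
      exact hij.ne (hbinj e')
  · intro x hx
    have h2 : ∀ y : D, y ≠ 0 → 2 • y = 0 → (addOrderOf y).Prime := fun y hy hy2 => by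
      rw [addOrderOf_eq_prime (p := 2) hy2 hy]; exact Nat.prime_two
    rcases (mem_S x).mp hx with ⟨i, rfl⟩ | ⟨i, rfl⟩ | ⟨i, j, hij, hrr, rfl⟩ | ⟨j, rfl⟩ | ⟨i, j, hij, rfl⟩
    · rw [haord]; exact (hr i).1
    · rw [addOrderOf_eq_prime (p := r i) (by rw [smul_comm, hra, smul_zero]) (fun e => hA22 i (by rw [e, smul_zero]))]
      exact (hr i).1
    · rw [addOrderOf_eq_prime (p := r i) (by rw [nsmul_add, hra, smul_comm, hrr, hra, smul_zero, add_zero])
        (fun e => hP2 i j hij (by rw [e, smul_zero]))]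
      exact (hr i).1
    · exact h2 _ (hbne j) (hb2 j)
    · refine h2 _ (fun e => ?_) (hbb2 i j)
      have := congrArg (d i) e
      rw [map_add, hdb, hdb0 i j hij.ne, add_zero, map_zero] at this
      exact one_ne_zero this
  · intro x hx ho hcol
    simp only [col] at hcol
    split_ifs at hcol with h0 h1
    · exact absurd hcol (by decide)
    · exact absurd hcol (by decide)
    rw [hC0] at h0; rw [hC1] at h1
    push Not at h0 h1
    rcases (mem_S x).mp hx with ⟨i, rfl⟩ | ⟨i, rfl⟩ | ⟨i, j, hij, hrr, rfl⟩ | ⟨j, rfl⟩ | ⟨i, j, hij, rfl⟩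
    · exact h0.1 i rfl
    · exact h1.1 i rfl
    · exact h1.2.1 i j hij hrr rfl
    · exact ho (addOrderOf_eq_prime (p := 2) (hb2 j) (hbne j))
    · refine ho (addOrderOf_eq_prime (p := 2) (hbb2 i j) (fun e => ?_))
      have := congrArg (d i) e
      rw [map_add, hdb, hdb0 i j hij.ne, add_zero, map_zero] at this
      exact one_ne_zero this
  · refine top_unique (hgen.ge.trans ((AddSubgroup.closure_le _).mpr ?_))
    have in0 : ∀ x, x ∈ S → C0 x → x ∈ AddSubgroup.closure {x | x ∈ S ∧ col x ≠ 2} := fun x hx h =>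
      AddSubgroup.subset_closure ⟨hx, by simp [col, h]⟩
    have in1 : ∀ x, x ∈ S → C1 x → x ∈ AddSubgroup.closure {x | x ∈ S ∧ col x ≠ 2} := fun x hx h =>
      AddSubgroup.subset_closure ⟨hx, by simp [col, h, hC10 x h]⟩
    rintro _ (⟨i, rfl⟩ | ⟨j, rfl⟩)
    · exact in0 _ ((mem_S _).mpr (Or.inl ⟨i, rfl⟩)) ((hC0 _).mpr (Or.inl ⟨i, rfl⟩))
    · have hj : ∀ l : Fin k, ((l : ℕ) ≠ 0 ∨ k = 1) → b l ∈ AddSubgroup.closure {x | x ∈ S ∧ col x ≠ 2} := fun l hl =>
        in0 _ ((mem_S _).mpr (Or.inr (Or.inr (Or.inr (Or.inl ⟨l, rfl⟩))))) ((hC0 _).mpr (Or.inr ⟨l, hl, rfl⟩))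
      by_cases h : (j : ℕ) ≠ 0 ∨ k = 1
      · exact hj j h
      push Not at h
      have hj1 : (j : ℕ) + 1 < k := by have := j.isLt; omega
      let l : Fin k := ⟨(j : ℕ) + 1, hj1⟩
      have hjl : j < l := Fin.lt_def.mpr (by simp [l])
      have h1 := in1 (b j + b l) ((mem_S _).mpr (Or.inr (Or.inr (Or.inr (Or.inr ⟨j, l, hjl, rfl⟩)))))
        ((hC1 _).mpr (Or.inr (Or.inr ⟨j, l, rfl, rfl⟩)))
      simpa using sub_mem h1 (hj l (Or.inl (by simp [l])))
  · intro T hTS hTcol
    have hTC0 : ∀ x ∈ S, C0 x → C0 (T x) := fun x hx h => by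
      have := hTcol x hx
      simp only [col, if_pos h] at this
      by_contra h'
      rw [if_neg h'] at this
      split_ifs at this <;> exact absurd this (by decide)
    have hTC1 : ∀ x ∈ S, C1 x → C1 (T x) := fun x hx h => by
      have := hTcol x hx
      simp only [col, if_neg (hC10 x h), if_pos h] at this
      by_contra h'
      split_ifs at this <;> exact absurd this (by decide)
    have hTord : ∀ x, addOrderOf (T x) = addOrderOf x := fun x => AddEquiv.addOrderOf_eq T x
    have hTa : ∀ i, ∃ i', T (a i) = a i' := fun i => by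
      rcases (hC0 _).mp (hTC0 _ ((mem_S _).mpr (Or.inl ⟨i, rfl⟩)) ((hC0 _).mpr (Or.inl ⟨i, rfl⟩))) with h | ⟨j, -, h⟩
      · exact h
      · refine absurd ?_ (hr i).2
        rw [← haord i, ← hTord, h, addOrderOf_eq_prime (p := 2) (hb2 j) (hbne j)]
    choose π hπ using hTa
    have hπr : ∀ i, r (π i) = r i := fun i => by rw [← haord, ← hπ, hTord, haord]
    have hπid := eq_id_of_classMono r π (fun i j h => hainj (T.injective (by rw [hπ, hπ, h]))) hπr (by
      intro i j hrr hij
      have hne : π i ≠ π j := fun h => hij.ne (hainj (T.injective (by rw [hπ, hπ, h])))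
      have hmem : a i + 2 • a j ∈ S := (mem_S _).mpr (Or.inr (Or.inr (Or.inl ⟨i, j, hij, hrr, rfl⟩)))
      have h1 := hTC1 _ hmem ((hC1 _).mpr (Or.inr (Or.inl ⟨i, j, hij, hrr, rfl⟩)))
      rw [map_add, map_nsmul, hπ, hπ, hC1] at h1
      rcases h1 with ⟨l, h⟩ | ⟨l, m, hlm, -, h⟩ | ⟨l, m, -, h⟩
      · have e1 := congrArg (c (π i)) h
        have e2 := congrArg (c (π j)) h
        rw [map_add, hc2, hc2, hca, hca0 _ _ hne, mul_zero, add_zero] at e1
        rw [map_add, hc2, hc2, hca, hca0 _ _ hne.symm, zero_add] at e2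
        by_cases e : π i = l
        · subst e; rw [hca, mul_one] at e1; exact absurd e1.symm (h21 _)
        · rw [hca0 _ _ e, mul_zero] at e1; exact absurd e1 one_ne_zero
      · have e1 := congrArg (c (π i)) h
        rw [map_add, map_add, hc2, hc2, hca, hca0 _ _ hne, mul_zero, add_zero] at e1
        by_cases el : π i = l
        · subst el
          have e2 := congrArg (c (π j)) h
          rw [map_add, map_add, hc2, hc2, hca, hca0 _ _ hne.symm, mul_one, zero_add, zero_add] at e2
          by_cases em : π j = m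
          · exact em ▸ hlm
          · rw [hca0 _ _ em, mul_zero] at e2; exact absurd e2 (h2ne _)
        · rw [hca0 _ _ el, zero_add] at e1
          by_cases em : π i = m
          · subst em; rw [hca, mul_one] at e1; exact absurd e1.symm (h21 _)
          · rw [hca0 _ _ em, mul_zero] at e1; exact absurd e1 one_ne_zero
      · have := hc_two (a (π i) + 2 • a (π j)) (by rw [h]; exact hbb2 l m) (π i)
        rw [map_add, hc2, hca, hca0 _ _ hne, mul_zero, add_zero] at this
        exact absurd this one_ne_zero)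
    have hTafix : ∀ i, T (a i) = a i := fun i => by rw [hπ, hπid]
    have hTb : ∀ j : Fin k, ((j : ℕ) ≠ 0 ∨ k = 1) → ∃ j' : Fin k, ((j' : ℕ) ≠ 0 ∨ k = 1) ∧ T (b j) = b j' := fun j hj => by
      rcases (hC0 _).mp (hTC0 _ ((mem_S _).mpr (Or.inr (Or.inr (Or.inr (Or.inl ⟨j, rfl⟩)))))
        ((hC0 _).mpr (Or.inr ⟨j, hj, rfl⟩))) with ⟨i, h⟩ | h
      · refine absurd ?_ (hA_B i (T (b j)) (by rw [← map_nsmul, hb2, map_zero]))
        exact h.symm
      · exact h
    have hTbfix : ∀ j : Fin k, T (b j) = b j := by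
      rcases Nat.lt_or_ge k 2 with hk | hk
      · intro j
        have hk1 : k = 1 := by have := j.isLt; omega
        obtain ⟨j', -, h⟩ := hTb j (Or.inr hk1)
        rw [h]; congr 1; ext; have := j.isLt; have := j'.isLt; omega
      let o : Fin k := ⟨0, by omega⟩
      have hne1 : k ≠ 1 := by omega
      have hsurj : ∀ l : Fin k, (l : ℕ) ≠ 0 → ∃ j : Fin k, (j : ℕ) ≠ 0 ∧ T (b j) = b l := by
        let J := {j : Fin k // (j : ℕ) ≠ 0}
        have h : ∀ j : J, ∃ j' : J, T (b j.1) = b j'.1 := fun j => by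
          obtain ⟨j', hj', h⟩ := hTb j.1 (Or.inl j.2)
          exact ⟨⟨j', hj'.resolve_right hne1⟩, h⟩
        choose ρ hρ using h
        intro l hl
        obtain ⟨j, hj⟩ := (Finite.injective_iff_surjective.mp (fun x y e =>
          Subtype.ext (hbinj (T.injective (by rw [hρ, hρ, e])))) : Function.Surjective ρ) ⟨l, hl⟩
        exact ⟨j.1, j.2, by rw [hρ, hj]⟩
      have h0 : T (b o) = b o := by
        have hoS : b o ∈ S := (mem_S _).mpr (Or.inr (Or.inr (Or.inr (Or.inl ⟨o, rfl⟩))))
        rcases (mem_S _).mp ((hTS _).mpr hoS) with ⟨i, h⟩ | ⟨i, h⟩ | ⟨i, l, hil, -, h⟩ | ⟨j, h⟩ | ⟨i, j, hij, h⟩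
        · exact absurd h.symm (hA_B i _ (by rw [← map_nsmul, hb2, map_zero]))
        · exact absurd (by rw [← h, ← map_nsmul, hb2, map_zero]) (hA22 i)
        · exact absurd (by rw [← h, ← map_nsmul, hb2, map_zero]) (hP2 i l hil)
        · by_cases hj0 : (j : ℕ) = 0
          · rw [h]; congr 1; exact Fin.ext hj0
          obtain ⟨j', hj', h'⟩ := hsurj j hj0
          exact absurd (congrArg Fin.val (hbinj (T.injective (h.trans h'.symm)))) (fun e => hj' e.symm)
        · have hcolo : col (b o) = 2 := by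
            have n0 : ¬ C0 (b o) := by
              rw [hC0]; rintro (⟨i, e⟩ | ⟨l, hl, e⟩)
              · exact hA_B i _ (hb2 o) e.symm
              · rw [← hbinj e] at hl; simp [o, hne1] at hl
            have n1 : ¬ C1 (b o) := by
              rw [hC1]; rintro (⟨i, e⟩ | ⟨i, l, hil, -, e⟩ | ⟨i, l, hil, e⟩)
              · exact hA22 i (by rw [← e, hb2])
              · exact hP2 i l hil (by rw [← e, hb2])
              · exact hB_BP o i l (fun e' => by rw [e'] at hil; omega) e
            simp [col, n0, n1]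
          have hadj : ¬ (j : ℕ) = i + 1 := fun e => by
            have := hTcol _ hoS
            rw [hcolo] at this
            have c1 : C1 (T (b o)) := (hC1 _).mpr (Or.inr (Or.inr ⟨i, j, e, h⟩))
            simp [col, c1, hC10 _ c1] at this
          have hij' : (i : ℕ) < j := hij
          let l : Fin k := ⟨(i : ℕ) + 1, by have := j.isLt; omega⟩
          obtain ⟨m, hm, hml⟩ := hsurj l (by simp [l])
          have hom : o < m := Fin.lt_def.mpr (by simp only [o]; omega)
          have h3 : T (b o + b m) ∈ S := (hTS _).mpr ((mem_S _).mpr (Or.inr (Or.inr (Or.inr (Or.inr ⟨o, m, hom, rfl⟩)))))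
          rw [map_add, h, hml] at h3
          have hli : l ≠ i := fun e => by have := congrArg Fin.val e; simp [l] at this
          have hlj : l ≠ j := fun e => hadj (by have := congrArg Fin.val e; simp only [l] at this; omega)
          have d1 : ∀ s, s = i ∨ s = j ∨ s = l → d s (b i + b j + b l) = 1 := by
            rintro s (rfl | rfl | rfl) <;>
              simp [map_add, hdb, hdb0, hij.ne, hij.ne', hli, hlj, hli.symm, hlj.symm]
          have e2 : 2 • (b i + b j + b l) = 0 := by rw [nsmul_add, hbb2, hb2, add_zero]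
          rcases (mem_S _).mp h3 with ⟨s, h'⟩ | ⟨s, h'⟩ | ⟨s, t, hst, -, h'⟩ | ⟨s, h'⟩ | ⟨s, t, hst, h'⟩
          · exact absurd h'.symm (hA_B s _ e2)
          · exact absurd (by rw [← h', e2]) (hA22 s)
          · exact absurd (by rw [← h', e2]) (hP2 s t hst)
          · have key : ∀ u, u = i ∨ u = j ∨ u = l → u = s := fun u hu => by
              by_contra hne
              have := d1 u hu
              rw [h', hdb0 u s hne] at this
              exact zero_ne_one this
            exact absurd ((key i (Or.inl rfl)).trans (key j (Or.inr (Or.inl rfl))).symm) hij.ne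
          · have key : ∀ u, u = i ∨ u = j ∨ u = l → u = s ∨ u = t := fun u hu => by
              by_contra hne
              push Not at hne
              have := d1 u hu
              rw [h', map_add, hdb0 u s hne.1, hdb0 u t hne.2, add_zero] at this
              exact zero_ne_one this
            have a1 := key i (Or.inl rfl)
            have a2 := key j (Or.inr (Or.inl rfl))
            have a3 := key l (Or.inr (Or.inr rfl))
            grind
      suffices h : ∀ (n : ℕ) (hn : n < k), T (b ⟨n, hn⟩) = b ⟨n, hn⟩ from fun j => h j.1 j.2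
      intro n
      induction n using Nat.strong_induction_on with
      | _ n ih =>
        intro hn
        rcases Nat.eq_zero_or_pos n with rfl | hpos
        · exact h0
        obtain ⟨j', hj', h⟩ := hTb ⟨n, hn⟩ (Or.inl (by simp; omega))
        let q : Fin k := ⟨n - 1, by omega⟩
        have hq : T (b q) = b q := ih _ (by omega) _
        have hqn : q < (⟨n, hn⟩ : Fin k) := Fin.lt_def.mpr (by simp only [q]; omega)
        have h1 := hTC1 _ ((mem_S _).mpr (Or.inr (Or.inr (Or.inr (Or.inr ⟨q, _, hqn, rfl⟩)))))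
          ((hC1 _).mpr (Or.inr (Or.inr ⟨q, ⟨n, hn⟩, by simp only [q]; omega, rfl⟩)))
        rw [map_add, hq, h] at h1
        have hqj : q ≠ j' := fun e => hqn.ne (hbinj (T.injective (by rw [hq, h, e])))
        rcases (hC1 _).mp h1 with ⟨i, e⟩ | ⟨i, l, hil, -, e⟩ | ⟨i, l, hil, e⟩
        · exact absurd (by rw [← e, hbb2]) (hA22 i)
        · exact absurd (by rw [← e, hbb2]) (hP2 i l hil)
        · have hil' : i < l := Fin.lt_def.mpr (by omega)
          rw [h]
          congr 1
          rcases lt_or_gt_of_ne hqj with h' | h'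
          · obtain ⟨e1, e2⟩ := hBP_inj _ _ _ _ h' hil' e
            refine Fin.ext ?_
            show (j' : ℕ) = n
            have := congrArg Fin.val e1; simp only [q] at this
            rw [e2]; omega
          · rw [add_comm] at e
            obtain ⟨e1, e2⟩ := hBP_inj _ _ _ _ h' hil' e
            exfalso
            have hlt : (j' : ℕ) < n := by have := Fin.lt_def.mp h'; simp only [q] at this; omega
            exact absurd (congrArg Fin.val (hbinj (T.injective ((ih _ hlt j'.2).trans h.symm)))) hlt.ne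
    refine AddEquiv.ext fun x => ?_
    have hx : x ∈ AddSubgroup.closure (Set.range a ∪ Set.range b) := hgen ▸ AddSubgroup.mem_top x
    induction hx using AddSubgroup.closure_induction with
    | mem y hy =>
      rcases hy with ⟨i, rfl⟩ | ⟨j, rfl⟩
      · exact hTafix i
      · exact hTbfix j
    | zero => exact map_zero T
    | add y z _ _ hy hz => rw [map_add, hy, hz]; rfl
    | neg y _ hy => rw [map_neg, hy]; rfl
  · intro K _ ψ hψ0 hψS hψne hquad x y
    let B : D → D → K := fun x y => ψ (x + y) / (ψ x * ψ y)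
    have hBsymm : ∀ x y, B x y = B y x := fun x y => by simp only [B, add_comm x y, mul_comm (ψ x)]
    have hBadd : ∀ x y z, B x (y + z) = B x y * B x z := fun x y z => by
      simp only [B]
      rw [← add_assoc, div_mul_div_comm, div_eq_div_iff (mul_ne_zero (hψne _) (hψne _))
        (mul_ne_zero (mul_ne_zero (hψne _) (hψne _)) (mul_ne_zero (hψne _) (hψne _)))]
      linear_combination (ψ x) * hquad x y z
    have hB0 : ∀ x, B x 0 = 1 := fun x => by
      simp only [B, add_zero, hψ0, mul_one]; exact div_self (hψne x)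
    have hBn : ∀ x y (n : ℕ), B x (n • y) = B x y ^ n := fun x y n => by
      induction n with
      | zero => rw [zero_smul, hB0, pow_zero]
      | succ n ih => rw [succ_nsmul, hBadd, ih, pow_succ]
    have hord : ∀ x y : D, ∀ n : ℕ, n • y = 0 → B x y ^ n = 1 := fun x y n h => by rw [← hBn, h, hB0]
    have hcop : ∀ {z : K} {m n : ℕ}, m.Coprime n → z ^ m = 1 → z ^ n = 1 → z = 1 := by
      intro z m n h hm hn
      exact orderOf_eq_one_iff.mp (Nat.eq_one_of_dvd_coprimes h (orderOf_dvd_of_pow_eq_one hm) (orderOf_dvd_of_pow_eq_one hn))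
    have hS : ∀ x y, x ∈ S → y ∈ S → (x + y ∈ S ∨ x + y = 0) → B x y = 1 := by
      intro x y hx hy h
      simp only [B, hψS x hx, hψS y hy, mul_one, div_one]
      rcases h with h | h
      · exact hψS _ h
      · rw [h, hψ0]
    have memA : ∀ i, a i ∈ S := fun i => (mem_S _).mpr (Or.inl ⟨i, rfl⟩)
    have memB : ∀ j, b j ∈ S := fun j => (mem_S _).mpr (Or.inr (Or.inr (Or.inr (Or.inl ⟨j, rfl⟩))))
    have hAA : ∀ i j, B (a i) (a j) = 1 := by
      suffices h : ∀ i j, i < j → r i = r j → B (a i) (a j) = 1 by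
        intro i j
        by_cases hrr : r i = r j
        · rcases lt_trichotomy i j with hl | rfl | hl
          · exact h i j hl hrr
          · exact hS _ _ (memA i) (memA i) (Or.inl (by rw [← two_nsmul]; exact (mem_S _).mpr (Or.inr (Or.inl ⟨i, rfl⟩))))
          · rw [hBsymm]; exact h j i hl hrr.symm
        · refine hcop ((Nat.coprime_primes (hr i).1 (hr j).1).mpr hrr) ?_ (hord _ _ _ (hra j))
          rw [hBsymm]; exact hord _ _ _ (hra i)
      intro i j hij hrr
      have h1 : B (a i) (2 • a j) = 1 := hS _ _ (memA i) ((mem_S _).mpr (Or.inr (Or.inl ⟨j, rfl⟩)))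
        (Or.inl ((mem_S _).mpr (Or.inr (Or.inr (Or.inl ⟨i, j, hij, hrr, rfl⟩)))))
      rw [hBn] at h1
      exact hcop (Nat.coprime_two_left.mpr ((hr j).1.odd_of_ne_two (hr j).2)) h1 (hord _ _ _ (hra j))
    have hBB : ∀ i j, B (b i) (b j) = 1 := fun i j => hS _ _ (memB i) (memB j) (by
      rcases lt_trichotomy i j with hl | rfl | hl
      · exact Or.inl ((mem_S _).mpr (Or.inr (Or.inr (Or.inr (Or.inr ⟨i, j, hl, rfl⟩)))))
      · exact Or.inr (by rw [← two_nsmul, hb2])
      · exact Or.inl ((mem_S _).mpr (Or.inr (Or.inr (Or.inr (Or.inr ⟨j, i, hl, add_comm _ _⟩))))))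
    have hAB : ∀ i j, B (a i) (b j) = 1 := fun i j => by
      refine hcop (Nat.coprime_two_left.mpr ((hr i).1.odd_of_ne_two (hr i).2)) (hord _ _ _ (hb2 j)) ?_
      rw [hBsymm]; exact hord _ _ _ (hra i)
    have hgenB : ∀ g ∈ Set.range a ∪ Set.range b, ∀ y, B g y = 1 := by
      intro g hg y
      have hy : y ∈ AddSubgroup.closure (Set.range a ∪ Set.range b) := hgen ▸ AddSubgroup.mem_top y
      induction hy using AddSubgroup.closure_induction with
      | mem z hz =>
        rcases hg with ⟨i, rfl⟩ | ⟨i, rfl⟩ <;> rcases hz with ⟨j, rfl⟩ | ⟨j, rfl⟩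
        · exact hAA i j
        · exact hAB i j
        · rw [hBsymm]; exact hAB j i
        · exact hBB i j
      | zero => exact hB0 g
      | add u v _ _ hu hv => rw [hBadd, hu, hv, mul_one]
      | neg u _ hu =>
        have := hBadd g u (-u)
        rwa [add_neg_cancel, hB0, hu, one_mul, eq_comm] at this
    have h1 : B x y = 1 := by
      have hx : x ∈ AddSubgroup.closure (Set.range a ∪ Set.range b) := hgen ▸ AddSubgroup.mem_top x
      induction hx using AddSubgroup.closure_induction with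
      | mem z hz => exact hgenB z hz y
      | zero => rw [hBsymm]; exact hB0 y
      | add u v _ _ hu hv => rw [hBsymm, hBadd, hBsymm, hu, hBsymm y v, hv, mul_one]
      | neg u _ hu =>
        rw [hBsymm]
        have := hBadd y u (-u)
        rwa [add_neg_cancel, hB0, hBsymm y u, hu, one_mul, eq_comm] at this
    exact (div_eq_one_iff_eq (mul_ne_zero (hψne x) (hψne y))).mp h1

end CfsgLib.EvenPair
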