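import Cfsg.Agent.EvenPair.Pivot
import Cfsg.Agent.EvenPair.Rigid

/-!
A pair of vectors with trivial stabiliser for a frame over a field with at least seven elements,
or with class-two part of odd order modulo `C`.
-/

set_option autoImplicit false
set_option linter.style.haveILetI false
set_option maxHeartbeats 1000000

open scoped commutatorElement

namespace CfsgLib.OddPair.Frame

variable {A V : Type} [Group A] [Finite A] [AddCommGroup V] [Finite V] [Nontrivial V] [DistribMulAction A V]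
variable (φ : Frame A V) [FaithfulSMul A V]

theorem pivot_normal (Zp : Subgroup A) (hC : φ.C ≤ Zp) (hF : Zp ≤ φ.F) : (Zp.subgroupOf φ.F).Normal := by
  refine ⟨fun x hx t => ?_⟩
  rw [Subgroup.mem_subgroupOf] at hx ⊢
  show (t : A) * (x : A) * (t : A)⁻¹ ∈ Zp
  rw [show (t : A) * (x : A) * (t : A)⁻¹ = ⁅(t : A), (x : A)⁆ * (x : A) by rw [commutatorElement_def]; group]
  exact mul_mem (hC (φ.comm_mem _ t.2 _ x.2)) hx

/-- Representatives of prime order cosets with central power and their scalars. -/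
theorem exists_rep [Group.IsSolvable A] (Zp : Subgroup A) (hC : φ.C ≤ Zp) [(Zp.subgroupOf φ.F).Normal]
    (a : φ.F ⧸ Zp.subgroupOf φ.F) :
    ∃ (t : φ.F) (l : φ.K), (t : φ.F ⧸ Zp.subgroupOf φ.F) = a ∧ l ≠ 0 ∧ ((orderOf a).Prime → ∃ (h : (t : A) ^ orderOf a ∈ φ.C) (ε : φ.K),
      (ε = 1 ∨ orderOf a = 2 ∧ ε = -1) ∧ φ.scal ((t : A) ^ orderOf a) h * l ^ orderOf a = ε) := by
  obtain ⟨f, rfl⟩ := QuotientGroup.mk_surjective a
  by_cases hr : (orderOf (f : φ.F ⧸ Zp.subgroupOf φ.F)).Prime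
  swap
  · exact ⟨f, 1, rfl, one_ne_zero, fun h => absurd h hr⟩
  set r := orderOf (f : φ.F ⧸ Zp.subgroupOf φ.F) with hrdef
  set o := orderOf ((f : A) : A ⧸ φ.C) with ho
  have hoC : (f : A) ^ o ∈ φ.C := by
    rw [← QuotientGroup.eq_one_iff, QuotientGroup.mk_pow]; exact pow_orderOf_eq_one _
  have hro : r ∣ o := by
    refine orderOf_dvd_of_pow_eq_one ?_
    rw [← QuotientGroup.mk_pow, QuotientGroup.eq_one_iff, Subgroup.mem_subgroupOf, SubmonoidClass.coe_pow]
    exact hC hoC
  obtain ⟨q, hq⟩ := hro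
  have hcop : q.Coprime r := by
    have hsf := φ.squarefree_order f.2
    rw [← ho, hq, mul_comm] at hsf
    exact Nat.coprime_of_squarefree_mul hsf
  obtain ⟨i, hi⟩ := exists_pow_eq_self_of_coprime (x := (f : φ.F ⧸ Zp.subgroupOf φ.F)) (n := q) hcop
  have hC' : ((((f ^ q) ^ i : φ.F) : A)) ^ r ∈ φ.C := by
    rw [SubmonoidClass.coe_pow, SubmonoidClass.coe_pow, ← pow_mul, ← pow_mul, show q * (i * r) = o * i by rw [hq]; ring, pow_mul]
    exact pow_mem hoC i
  obtain ⟨l, ε, hl, hε, he⟩ := φ.exists_root_scalar ((f ^ q) ^ i : φ.F).2 hr hC'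
  exact ⟨(f ^ q) ^ i, l, by rw [QuotientGroup.mk_pow, QuotientGroup.mk_pow, hi], hl, fun _ => ⟨hC', ε, hε, he⟩⟩

/-- Coefficients for a vector fixed by a combination of two anticommuting elements. -/
theorem exists_coeff (hQ : 7 ≤ Nat.card φ.K) (h2 : (2 : φ.K) ≠ 0) {ε : φ.K}
    (hε : ε = 1 ∨ ε = -1 ∧ ¬ IsSquare (-1 : φ.K)) : ∃ a b : φ.K, a ≠ 0 ∧ b ≠ 0 ∧ (a ^ 2 + b ^ 2) * ε = 1 := by
  classical
  haveI := Fintype.ofFinite φ.K
  rcases hε with rfl | ⟨rfl, hns⟩
  · let bad : Finset φ.K :=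
      {0} ∪ (Polynomial.X ^ 2 - 1 : Polynomial φ.K).roots.toFinset ∪ (Polynomial.X ^ 2 + 1 : Polynomial φ.K).roots.toFinset
    have hbad : bad.card < Fintype.card φ.K := by
      rw [← Nat.card_eq_fintype_card]
      have h1 : (Polynomial.X ^ 2 - 1 : Polynomial φ.K).roots.toFinset.card ≤ 2 :=
        (Multiset.toFinset_card_le _).trans ((Polynomial.card_roots' _).trans (by
          rw [← Polynomial.C_1, Polynomial.natDegree_X_pow_sub_C]))
      have h3 : (Polynomial.X ^ 2 + 1 : Polynomial φ.K).roots.toFinset.card ≤ 2 :=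
        (Multiset.toFinset_card_le _).trans ((Polynomial.card_roots' _).trans (by
          rw [← Polynomial.C_1, Polynomial.natDegree_X_pow_add_C]))
      have h4 := Finset.card_union_le ({0} ∪ (Polynomial.X ^ 2 - 1 : Polynomial φ.K).roots.toFinset)
        (Polynomial.X ^ 2 + 1 : Polynomial φ.K).roots.toFinset
      have h5 := Finset.card_union_le ({0} : Finset φ.K) (Polynomial.X ^ 2 - 1 : Polynomial φ.K).roots.toFinset
      have : bad.card ≤ 5 := by
        refine h4.trans ?_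
        rw [Finset.card_singleton] at h5
        omega
      omega
    obtain ⟨t, -, ht⟩ := Finset.exists_mem_notMem_of_card_lt_card (show bad.card < (Finset.univ : Finset φ.K).card from hbad)
    have e1 : (Polynomial.X ^ 2 - 1 : Polynomial φ.K) ≠ 0 := by
      rw [← Polynomial.C_1]; exact Polynomial.X_pow_sub_C_ne_zero two_pos _
    have e2 : (Polynomial.X ^ 2 + 1 : Polynomial φ.K) ≠ 0 := by
      rw [← Polynomial.C_1]; exact Polynomial.X_pow_add_C_ne_zero two_pos _
    simp only [bad, Finset.mem_union, Finset.mem_singleton, Multiset.mem_toFinset, Polynomial.mem_roots e1,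
      Polynomial.mem_roots e2, Polynomial.IsRoot.def, Polynomial.eval_sub, Polynomial.eval_add, Polynomial.eval_pow,
      Polynomial.eval_X, Polynomial.eval_one, not_or] at ht
    obtain ⟨⟨ht0, ht1⟩, ht2⟩ := ht
    refine ⟨2 * t / (t ^ 2 + 1), (t ^ 2 - 1) / (t ^ 2 + 1), div_ne_zero (mul_ne_zero h2 ht0) ht2, div_ne_zero ht1 ht2, ?_⟩
    rw [mul_one, div_pow, div_pow, ← add_div, div_eq_one_iff_eq (pow_ne_zero _ ht2)]
    ring
  · obtain ⟨q, hq⟩ := CharP.exists φ.K
    haveI := hq
    haveI : NeZero q := ⟨(CharP.char_is_prime φ.K q).ne_zero⟩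
    obtain ⟨a, b, hab⟩ := CharP.sq_add_sq φ.K q (-1)
    push_cast at hab
    refine ⟨(a : φ.K), (b : φ.K), fun e => hns ⟨(b : φ.K), ?_⟩, fun e => hns ⟨(a : φ.K), ?_⟩, by rw [hab]; ring⟩
    · rw [← hab, e]; ring
    · rw [← hab, e]; ring

theorem inBlock_congr {Zc : Subgroup A} {v0 v x : V} (hv : v ≠ 0) (heig : ∀ z ∈ Zc, ∃ r : φ.K, z • v0 = r • v0)
    (hvv : φ.InBlock Zc v0 v) (hx : φ.InBlock Zc v0 x) : φ.InBlock Zc v x := fun z hz r hr => by
  obtain ⟨r0, hr0⟩ := heig z hz
  rw [hx z hz r0 hr0, φ.smul_left_cancel' hv ((hvv z hz r0 hr0).symm.trans hr)]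

/-- Lifting of the squares: the action on scalars is trivial. -/
theorem mem_L_of_conjK_gen (g : A) (h2 : (2 : φ.K) ≠ 0) (ω : φ.Kˣ) (hω : ∀ x : φ.Kˣ, x ∈ Subgroup.zpowers ω)
    (h : φ.conjK g (ω : φ.K) ^ 2 = (ω : φ.K) ^ 2) : g ∈ φ.L := by
  refine φ.L_eq_of_conjK fun r => ?_
  have hu : ∀ u : φ.Kˣ, φ.conjKHom g ((u : φ.K) ^ 2) = (u : φ.K) ^ 2 := by
    intro u
    obtain ⟨k, rfl⟩ := hω u
    rw [Units.val_zpow_eq_zpow_val, ← zpow_natCast, ← zpow_mul, mul_comm, zpow_mul, zpow_natCast, map_zpow₀]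
    congr 1
    rw [map_pow]
    exact h
  have hsq : ∀ x : φ.K, φ.conjKHom g (x ^ 2) = x ^ 2 := fun x => by
    by_cases hx : x = 0
    · rw [hx, zero_pow two_ne_zero, map_zero]
    · exact hu (Units.mk0 x hx)
  have hr : r = ((r + 1) ^ 2 - r ^ 2 - 1) / 2 := by rw [eq_div_iff h2]; ring
  rw [← φ.conjKHom_apply]
  conv_lhs => rw [hr]
  rw [map_div₀, map_sub, map_sub, hsq, hsq, map_one, map_ofNat, ← hr]

/-- Vectors in the centraliser quotient: eigenvectors lie in the centraliser. -/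
theorem mem_pivot_of_eigen {Zc Zp : Subgroup A} (hZp : Zp = φ.F ⊓ Subgroup.centralizer (Zc : Set A)) (hZF : Zc ≤ φ.F)
    {v : V} (hv : v ≠ 0) (heig : ∀ z ∈ Zc, ∃ r : φ.K, z • v = r • v) {n : A} (hn : n ∈ φ.F) {c : φ.K}
    (h : n • v = c • v) : n ∈ Zp := by
  rw [hZp]
  refine ⟨hn, Subgroup.mem_centralizer_iff.mpr fun z hz => ?_⟩
  refine commutatorElement_eq_one_iff_mul_comm.mp ?_
  obtain ⟨r, hr⟩ := heig z hz
  have hc : ⁅z, n⁆ ∈ φ.C := φ.comm_mem z (hZF hz) n hn
  by_contra hne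
  refine hv ?_
  have h1 : ⁅z, n⁆ • (n • (z • v)) = z • n • v := by
    rw [← mul_smul, ← mul_smul, ← mul_smul]; congr 1; rw [commutatorElement_def]; group
  have h2 : n • z • v = z • n • v := by
    rw [hr, φ.L_smul (φ.F_le hn), h, φ.L_smul (φ.F_le (hZF hz)), hr, smul_comm]
  rw [← h2] at h1
  have h3 := φ.eq_zero_of_fixed hc hne h1
  exact (smul_eq_zero_iff_eq z).mp ((smul_eq_zero_iff_eq n).mp h3)

/-- The assembly of the block criterion with coloured representatives. -/
theorem pair_of_pivot [Group.IsSolvable A] (Zc Zp : Subgroup A) (v w0 : V) (k1 k2 : V) (ω : φ.K)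
    (hCZ : φ.C ≤ Zc) (hZcp : Zc ≤ Zp) (hZp : Zp = φ.F ⊓ Subgroup.centralizer (Zc : Set A))
    (hv : v ≠ 0) (heig : ∀ z ∈ Zc, ∃ r : φ.K, z • v = r • v)
    (hne : ∀ n ∈ Zp, ∀ r : φ.K, n • v = r • v → n ∈ Zc)
    (hw0 : φ.InBlock Zc v w0)
    (hlin : ∀ g : A, g • v = v → g • w0 = w0 → g ∈ φ.L)
    (hfix : ∀ g : A, g • v = v → g • w0 = w0 → ∀ π ∈ Zp, g • (π • v) = π • v)
    (hk1 : k1 = ω • v) (hk2W : φ.InBlock Zc v k2) (hk20 : k2 ≠ 0) (hω : ω ≠ 0)
    (hk2 : ∀ g : A, g • v = v → g • w0 = w0 → g • k2 = k2)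
    (hodd : ∀ r : ℕ, r.Prime → r ≠ 2 → r ∣ Nat.card φ.K - 1 → ω ^ r ≠ 1)
    (heven : ∀ f : A, f ∈ φ.F → f ^ 2 ∈ φ.C → f ∉ Zp →
      ω ^ 4 ≠ 1 ∧ ∀ π ∈ Zp, ∀ l l' : φ.K, l ≠ 0 → l' ≠ 0 → (∀ c : φ.K, π • v = c • v → (c * l / l') ^ 4 = 1) →
        π • (l • v) ≠ l' • k2 ∧ π • (l • k1) ≠ l' • k2 ∧ π • (l • k2) ≠ l' • v ∧ π • (l • k2) ≠ l' • k1) :
    ∃ v w : V, ∀ g : A, g • v = v → g • w = w → g = 1 := by
  classical
  have hZpF : Zp ≤ φ.F := hZp.le.trans inf_le_left
  haveI := φ.pivot_normal Zp (hCZ.trans hZcp) hZpF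
  let D := φ.F ⧸ Zp.subgroupOf φ.F
  haveI hDc : IsMulCommutative D := ⟨⟨fun a b => by
    induction a using QuotientGroup.induction_on with
    | H s =>
      induction b using QuotientGroup.induction_on with
      | H t =>
        rw [← QuotientGroup.mk_mul, ← QuotientGroup.mk_mul, QuotientGroup.eq, Subgroup.mem_subgroupOf]
        have : ((((s * t)⁻¹ * (t * s) : φ.F)) : A) = ⁅(t : A)⁻¹, (s : A)⁻¹⁆ := by
          simp only [Subgroup.coe_mul, InvMemClass.coe_inv, commutatorElement_def]; group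
        rw [this]
        exact hZcp (hCZ (φ.comm_mem _ (inv_mem t.2) _ (inv_mem s.2)))⟩⟩
  letI : CommGroup D := { (inferInstance : Group D) with mul_comm := fun a b => hDc.is_comm.comm a b }
  choose rep l hrep hl0 hpow using φ.exists_rep Zp (hCZ.trans hZcp)
  have hsf : ∀ x : Additive D, Squarefree (addOrderOf x) := by
    intro x
    obtain ⟨f, hf⟩ := QuotientGroup.mk_surjective (Additive.toMul x : D)
    refine (φ.squarefree_order f.2).squarefree_of_dvd ?_
    rw [show addOrderOf x = orderOf (Additive.toMul x) from addOrderOf_ofMul_eq_orderOf (Additive.toMul x), ← hf]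
    refine orderOf_dvd_of_pow_eq_one ?_
    rw [← QuotientGroup.mk_pow, QuotientGroup.eq_one_iff, Subgroup.mem_subgroupOf, SubmonoidClass.coe_pow]
    refine hZcp (hCZ ?_)
    rw [← QuotientGroup.eq_one_iff, QuotientGroup.mk_pow]
    exact pow_orderOf_eq_one _
  obtain ⟨S', col, hS0, hSp, hScol, hSspan, hSrig, hSdet⟩ := EvenPair.exists_scheme hsf
  let S : Finset D := S'.map ⟨Additive.toMul, Additive.toMul.injective⟩
  have hmemS : ∀ a : D, a ∈ S ↔ Additive.ofMul a ∈ S' := by
    intro a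
    simp only [S, Finset.mem_map]
    exact ⟨fun ⟨x, hx, e⟩ => e ▸ hx, fun h => ⟨_, h, rfl⟩⟩
  have hprime : ∀ a ∈ S, (orderOf a).Prime := fun a ha => by
    have := hSp _ ((hmemS a).mp ha)
    rwa [addOrderOf_ofMul_eq_orderOf] at this
  let kv : Fin 3 → V := ![v, k1, k2]
  let y : D → V := fun a => l a • kv (col (Additive.ofMul a))
  have hvW := φ.inBlock_self Zc v
  have hkW : ∀ i, φ.InBlock Zc v (kv i) := by
    intro i; fin_cases i
    · exact hvW
    · simp only [kv, hk1]; exact hvW.smul (hZcp.trans (hZpF.trans φ.F_le)) ω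
    · exact hk2W
  have hk0 : ∀ i, kv i ≠ 0 := by
    intro i; fin_cases i
    · exact hv
    · simp only [kv, hk1]; exact smul_ne_zero hω hv
    · exact hk20
  have hkfix : ∀ g : A, g • v = v → g • w0 = w0 → ∀ i, g • kv i = kv i := by
    intro g h1 h2 i; fin_cases i
    · exact h1
    · simp only [kv, hk1]
      show g • (ω • v) = ω • v
      rw [φ.smul_K, φ.conjK_of_mem (hlin g h1 h2), h1]
    · exact hk2 g h1 h2
  refine φ.block_pair Zc Zp v w0 hCZ hZcp hZp hv heig hne hw0 hlin hfix S ?_ rep hrep y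
    (fun a _ => smul_ne_zero (hl0 a) (hk0 _)) (fun a _ => (hkW _).smul (hZcp.trans (hZpF.trans φ.F_le)) _)
    (fun g h1 h2 a _ => by
      show g • (l a • _) = l a • _
      rw [φ.smul_K, φ.conjK_of_mem (hlin g h1 h2), hkfix g h1 h2]) ?_ ?_ ?_
  · intro h
    exact hS0 ((hmemS 1).mp h)
  · intro g hgv hgw hgL T hTS hTy hTc
    have hcol : ∀ a ∈ S, col (Additive.ofMul (T a)) = col (Additive.ofMul a) := by
      intro a ha
      have hb := (hTS a).mpr ha
      have hr := hprime a ha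
      have hord : orderOf (T a) = orderOf a := orderOf_injective T.toMonoidHom T.injective a
      obtain ⟨hta, εa, hεa, hea⟩ := hpow a hr
      obtain ⟨htb, εb, hεb, heb⟩ := hpow (T a) (hord ▸ hr)
      set r := orderOf a with hrdef
      set t := (rep a : A) with htdef
      set t' := (rep (T a) : A) with ht'def
      obtain ⟨π, hπdef⟩ : ∃ π, π = t'⁻¹ * (g * t * g⁻¹) := ⟨_, rfl⟩
      have htF : t ∈ φ.F := (rep a).2
      have ht'F : t' ∈ φ.F := (rep (T a)).2
      have hπ : π ∈ Zp := by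
        have h := (hrep (T a)).trans (hTc a).symm
        rw [QuotientGroup.eq, Subgroup.mem_subgroupOf] at h
        rw [hπdef]
        exact h
      have hπy : π • y a = y (T a) := by
        have hgy : g • y a = y a := by
          show g • (l a • _) = l a • _
          rw [φ.smul_K, φ.conjK_of_mem hgL, hkfix g hgv hgw]
        rw [hπdef, mul_smul, mul_smul, mul_smul, inv_smul_eq_iff.mpr hgy.symm, hTy a ha, inv_smul_smul]
      have key : ∀ c : φ.K, π • v = c • v → (c * l a / l (T a)) ^ (if r = 2 then 4 else r) = 1 := by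
        intro c hc
        have hπc := hne π hπ c hc
        have hπF : π ∈ φ.F := hZpF hπ
        have htb' : t' ^ r ∈ φ.C := by rwa [hord] at htb
        have hpi : (t' * π) ^ r = t ^ r := by
          rw [hπdef, mul_inv_cancel_left, conj_pow]
          exact mul_inv_eq_iff_eq_mul.mpr (φ.comm_C_L hta hgL).symm
        rw [φ.mul_pow_eq ht'F hπF] at hpi
        have hπr : π ^ r ∈ φ.C := by
          have hc2 : ⁅π, t'⁆ ^ r.choose 2 ∈ φ.C := pow_mem (φ.comm_mem π hπF t' ht'F) _
          have := mul_mem (mul_mem (inv_mem htb') hta) (inv_mem hc2)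
          rw [← hpi] at this
          simpa [mul_assoc] using this
        obtain ⟨e, he, hee⟩ := φ.comm_sign ht'F hπF hr htb'
        have hsc : φ.scal (π ^ r) hπr = c ^ r := by
          refine φ.smul_left_cancel' hv ?_
          rw [φ.scal_smul]
          clear hpi hee hπr htb' hta htb hea heb
          induction r with
          | zero => rw [pow_zero, pow_zero, one_smul, one_smul]
          | succ n ih => rw [pow_succ, mul_smul, hc, φ.L_smul (φ.F_le (φ.F.pow_mem hπF n)), ih, smul_smul, pow_succ, mul_comm]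
        have heq : φ.scal (t ^ r) hta = φ.scal (t' ^ r) htb' * c ^ r * e := by
          rw [← hee, ← hsc, ← φ.scal_pow, ← φ.scal_mul, ← φ.scal_mul]
          exact φ.scal_congr hpi.symm _ _
        have heb' : φ.scal (t' ^ r) htb' * l (T a) ^ r = εb := by
          have := heb
          simp only [hord] at this
          exact this
        rw [hord] at hεb
        have hbl : l (T a) ≠ 0 := hl0 _
        have hmain : εb * (c * l a / l (T a)) ^ r * e = εa := by
          rw [← hea, heq, ← heb', div_pow, mul_pow]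
          field_simp
          exact mul_right_comm _ _ _
        rcases hr.eq_two_or_odd' with h2 | hodd'
        · rw [if_pos h2, show (4 : ℕ) = r * 2 by omega, pow_mul]
          have hq : ∀ z : φ.K, (z = 1 ∨ r = 2 ∧ z = -1) → z ^ 2 = 1 := by
            rintro z (rfl | ⟨-, rfl⟩) <;> ring
          have h4 := congrArg (· ^ 2) hmain
          simp only [mul_pow, hq _ hεa, hq _ hεb, hq _ he, one_mul, mul_one] at h4
          exact h4
        · have hne2 : r ≠ 2 := fun e' => absurd (e' ▸ hodd') (by decide)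
          rw [if_neg hne2]
          have hz : ∀ z : φ.K, (z = 1 ∨ r = 2 ∧ z = -1) → z = 1 := fun z hz => hz.resolve_right fun h => hne2 h.1
          rw [hz _ hεb, hz _ he, hz _ hεa, one_mul, mul_one] at hmain
          exact hmain
      have hla := hl0 a
      have hlb := hl0 (T a)
      have hscal : ∀ x z : φ.K, x ≠ 0 → π • (l a • (x • v)) = l (T a) • (z • v) →
          (z / x) ^ (if r = 2 then 4 else r) = 1 := by
        intro x z hx h
        have h' : π • v = (l (T a) * z / (l a * x)) • v := by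
          rw [φ.L_smul (φ.F_le (hZpF hπ)), φ.L_smul (φ.F_le (hZpF hπ)), smul_smul, smul_smul] at h
          rw [div_eq_inv_mul, ← smul_smul, eq_inv_smul_iff₀ (mul_ne_zero hla hx), h]
        have h'' := key _ h'
        rwa [show l (T a) * z / (l a * x) * l a / l (T a) = z / x by field_simp] at h''
      have hωN : ω ^ (if r = 2 then 4 else r) ≠ 1 := by
        split_ifs with h2
        · have hnot : (rep a : A) ∉ Zp := fun h => by
            have : a = 1 := by rw [← hrep a]; exact (QuotientGroup.eq_one_iff _).mpr (Subgroup.mem_subgroupOf.mpr h)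
            exact hS0 ((hmemS 1).mp (this ▸ ha))
          have hh := hta
          rw [h2] at hh
          exact (heven t htF hh hnot).1
        · refine hodd r hr h2 ?_
          obtain ⟨u, hu, hut⟩ : ∃ u ∈ φ.F, ⁅u, t⁆ ≠ 1 := by
            by_contra h
            push Not at h
            have hC : t ∈ φ.C := φ.center_eq.le ⟨htF, Subgroup.mem_centralizer_iff.mpr fun f hf =>
              commutatorElement_eq_one_iff_mul_comm.mp (h f hf)⟩
            have : a = 1 := by
              rw [← hrep a]; exact (QuotientGroup.eq_one_iff _).mpr (Subgroup.mem_subgroupOf.mpr (hZcp (hCZ hC)))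
            exact hS0 ((hmemS 1).mp (this ▸ ha))
          refine φ.succ_le_card_K (φ.comm_mem u hu t htF) hut hr ?_
          exact φ.scal_eq_one (pow_mem (φ.comm_mem u hu t htF) r) ((φ.scal_pow _ _ r).trans (φ.scal_comm_pow htF hu hta))
      have hcase2 : col (Additive.ofMul a) = 2 ∨ col (Additive.ofMul (T a)) = 2 → r = 2 := by
        rintro (h | h) <;> by_contra hne2
        · exact hScol _ ((hmemS a).mp ha) (by rwa [addOrderOf_ofMul_eq_orderOf, ← hrdef]) h
        · exact hScol _ ((hmemS _).mp hb) (by rwa [addOrderOf_ofMul_eq_orderOf, hord]) h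
      simp only [y] at hπy
      have e0 : kv 0 = (1 : φ.K) • v := (one_smul _ v).symm
      have e1 : kv 1 = ω • v := hk1
      have htwo : r = 2 → π • (l a • v) ≠ l (T a) • k2 ∧ π • (l a • k1) ≠ l (T a) • k2 ∧
          π • (l a • k2) ≠ l (T a) • v ∧ π • (l a • k2) ≠ l (T a) • k1 := fun h2 => by
        have hnot : (rep a : A) ∉ Zp := fun h => by
          have : a = 1 := by rw [← hrep a]; exact (QuotientGroup.eq_one_iff _).mpr (Subgroup.mem_subgroupOf.mpr h)
          exact hS0 ((hmemS 1).mp (this ▸ ha))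
        have hh := hta
        rw [h2] at hh
        exact (heven t htF hh hnot).2 π hπ _ _ hla hlb fun c hc => by simpa [h2] using key c hc
      have k0' : kv 0 = v := rfl
      have k1' : kv 1 = k1 := rfl
      have k2' : kv 2 = k2 := rfl
      generalize hca : col (Additive.ofMul a) = ca at hπy hcase2
      generalize hcb : col (Additive.ofMul (T a)) = cb at hπy hcase2
      match ca, cb with
      | 0, 0 => rfl
      | 1, 1 => rfl
      | 2, 2 => rfl
      | 0, 1 =>
        rw [e0, e1] at hπy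
        have := hscal 1 ω one_ne_zero hπy
        rw [div_one] at this
        exact absurd this hωN
      | 1, 0 =>
        rw [e0, e1] at hπy
        have := hscal ω 1 hω hπy
        rw [one_div, inv_pow, inv_eq_one] at this
        exact absurd this hωN
      | 0, 2 => rw [k0', k2'] at hπy; exact absurd hπy (htwo (hcase2 (Or.inr rfl))).1
      | 1, 2 => rw [k1', k2'] at hπy; exact absurd hπy (htwo (hcase2 (Or.inr rfl))).2.1
      | 2, 0 => rw [k0', k2'] at hπy; exact absurd hπy (htwo (hcase2 (Or.inl rfl))).2.2.1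
      | 2, 1 => rw [k1', k2'] at hπy; exact absurd hπy (htwo (hcase2 (Or.inl rfl))).2.2.2
    have h := hSrig (MulEquiv.toAdditive T) (fun x => by
        have := hTS (Additive.toMul x)
        rwa [hmemS, hmemS] at this)
      (fun x hx => hcol (Additive.toMul x) ((hmemS _).mpr hx))
    exact MulEquiv.ext fun a => congrArg Additive.toMul (DFunLike.congr_fun h (Additive.ofMul a))
  · refine top_unique fun a _ => ?_
    have key : ∀ a : D, a ∈ S → col (Additive.ofMul a) ≠ 2 →
        ∀ π ∈ Zp, π • y a = y a → π ∈ Zc := by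
      intro a _ hc π hπ h
      refine hne π hπ 1 ?_
      obtain ⟨x, hx, hkx⟩ : ∃ x : φ.K, x ≠ 0 ∧ kv (col (Additive.ofMul a)) = x • v := by
        generalize col (Additive.ofMul a) = ca at hc
        match ca with
        | 0 => exact ⟨1, one_ne_zero, (one_smul _ v).symm⟩
        | 1 => exact ⟨ω, hω, hk1⟩
        | 2 => exact absurd rfl hc
      simp only [y, hkx, smul_smul] at h
      rw [φ.L_smul (φ.F_le (hZpF hπ))] at h
      rw [one_smul]
      exact smul_right_injective V (mul_ne_zero (hl0 a) hx) h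
    have hx : Additive.ofMul a ∈ AddSubgroup.closure {x | x ∈ S' ∧ col x ≠ 2} := hSspan ▸ AddSubgroup.mem_top _
    have hall : ∀ x, x ∈ AddSubgroup.closure {x | x ∈ S' ∧ col x ≠ 2} →
        Additive.toMul x ∈ Subgroup.closure {a | a ∈ S ∧ ∀ π ∈ Zp, π • y a = y a → π ∈ Zc} := by
      intro x hx
      induction hx using AddSubgroup.closure_induction with
      | mem z hz => exact Subgroup.subset_closure ⟨(hmemS _).mpr hz.1, key _ ((hmemS _).mpr hz.1) hz.2⟩
      | zero => exact one_mem _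
      | add u v _ _ hu hv => exact mul_mem hu hv
      | neg u _ hu => exact inv_mem hu
    exact hall _ hx
  · intro ψ hψ1 hψS hψ0 hq a b
    exact hSdet φ.K (fun x => ψ (Additive.toMul x)) hψ1 (fun x hx => hψS _ ((hmemS _).mpr hx)) (fun x => hψ0 _)
      (fun x z w => hq _ _ _) (Additive.ofMul a) (Additive.ofMul b)

/-- The generic theorem. -/
theorem exists_pair_generic [Group.IsSolvable A] (h2 : (2 : φ.K) ≠ 0)
    (hQ : 7 ≤ Nat.card φ.K ∨ Odd (φ.C.relIndex φ.F)) :
    ∃ v w : V, ∀ g : A, g • v = v → g • w = w → g = 1 := by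
  classical
  have hneg : (-1 : φ.K) ≠ 1 := fun e => h2 (by linear_combination -e)
  obtain ⟨Zc, Zp, v0, hCZ, hZcp, hZp, hv0, heig0, hcase⟩ := φ.exists_pivot hneg
  have hZpF : Zp ≤ φ.F := hZp.le.trans inf_le_left
  have hZL : Zc ≤ φ.L := hZcp.trans (hZpF.trans φ.F_le)
  obtain ⟨ω, hω⟩ := IsCyclic.exists_generator (α := φ.Kˣ)
  have hord : orderOf (ω : φ.K) = Nat.card φ.K - 1 := by
    rw [orderOf_units, orderOf_eq_card_of_forall_mem_zpowers hω, Nat.card_units]
  have hω0 : (ω : φ.K) ≠ 0 := ω.ne_zero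
  have hK3 : 3 ≤ Nat.card φ.K := by
    haveI := Fintype.ofFinite φ.K
    rw [Nat.card_eq_fintype_card, Nat.add_one_le_iff, Fintype.two_lt_card_iff]
    exact ⟨0, 1, -1, zero_ne_one, (neg_ne_zero.mpr one_ne_zero).symm, hneg.symm⟩
  have hKodd : ∀ k : ℕ, (ω : φ.K) ^ k = 1 → Nat.card φ.K - 1 ∣ k := fun k hk => hord ▸ orderOf_dvd_of_pow_eq_one hk
  have hKeven : 2 ∣ Nat.card φ.K - 1 := by
    rw [← Nat.card_units, ← show orderOf (-1 : φ.Kˣ) = 2 from
      orderOf_eq_prime (by rw [neg_one_sq]) (fun e => hneg (congrArg Units.val e))]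
    exact orderOf_dvd_natCard _
  have hodd : ∀ r : ℕ, r.Prime → r ≠ 2 → r ∣ Nat.card φ.K - 1 → (ω : φ.K) ^ r ≠ 1 := by
    intro r hr hr2 hd h
    have h1 := Nat.dvd_antisymm hd (hKodd r h)
    have h2' := (hr.eq_one_or_self_of_dvd 2 (h1 ▸ hKeven))
    omega
  rcases hcase with ⟨rfl, hno⟩ | ⟨j, s, hj, hs, hj2, hs2, l, m, ε, hjZ, hsZ, hl, hm, hle, hme, hsj, hε, hdec⟩
  · -- no pivot pair
    refine φ.pair_of_pivot Zp Zp v0 ((ω : φ.K) • v0) ((ω : φ.K) • v0) v0 ω hCZ le_rfl hZp hv0 heig0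
      (fun n hn _ _ => hn) ((φ.inBlock_self Zp v0).smul hZL _) ?_ ?_ rfl (φ.inBlock_self Zp v0) hv0 hω0
      (fun g h _ => h) hodd (fun f hf hf2 hfp => absurd (hno f hf hf2) hfp)
    · intro g hgv hgw
      refine φ.mem_L_of_conjK_gen g h2 ω hω ?_
      rw [φ.smul_K, hgv] at hgw
      rw [φ.smul_left_cancel' hv0 hgw]
    · intro g hgv hgw π hπ
      obtain ⟨r, hr⟩ := heig0 π hπ
      have hgL : g ∈ φ.L := by
        refine φ.mem_L_of_conjK_gen g h2 ω hω ?_
        rw [φ.smul_K, hgv] at hgw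
        rw [φ.smul_left_cancel' hv0 hgw]
      rw [hr, φ.L_smul hgL, hgv]
  have hQ7 : 7 ≤ Nat.card φ.K := by
    refine hQ.resolve_right fun hodd' => ?_
    have hjC : j ∉ φ.C := fun h => by
      have := φ.scal_of_commute hs hj (φ.comm_C_L h (φ.F_le hs)).symm
      rw [hsj] at this
      exact hneg this
    haveI : (φ.C.subgroupOf φ.F).Normal := φ.pivot_normal φ.C le_rfl φ.C_le
    let q : φ.F ⧸ φ.C.subgroupOf φ.F := ((⟨j, hj⟩ : φ.F) : _)
    have hq2 : orderOf q = 2 := orderOf_eq_prime (by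
        rw [← QuotientGroup.mk_pow, QuotientGroup.eq_one_iff, Subgroup.mem_subgroupOf]; exact hj2)
      (fun e => hjC (Subgroup.mem_subgroupOf.mp ((QuotientGroup.eq_one_iff _).mp e)))
    have := orderOf_dvd_natCard q
    rw [hq2] at this
    exact Nat.not_even_iff_odd.mpr hodd' (even_iff_two_dvd.mpr this)
  have hjL := φ.F_le hj
  have hsL := φ.F_le hs
  have hε0 : ε ≠ 0 := by rcases hε with rfl | ⟨rfl, -⟩ <;> simp
  have hjj : ∀ x : V, j • j • x = φ.scal (j ^ 2) hj2 • x := fun x => by rw [φ.scal_smul, sq, mul_smul]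
  have hss : ∀ x : V, s • s • x = φ.scal (s ^ 2) hs2 • x := fun x => by rw [φ.scal_smul, sq, mul_smul]
  have hsjx : ∀ x : V, s • j • x = -(j • s • x) := fun x => by
    have h1 : ⁅s, j⁆ • (j • s • x) = s • j • x := by
      rw [← mul_smul, ← mul_smul, ← mul_smul]; congr 1; rw [commutatorElement_def]; group
    rw [← h1, ← φ.scal_smul _ (φ.comm_mem s hs j hj), hsj, neg_one_smul]
  obtain ⟨J, hJdef⟩ : ∃ J : V → V, ∀ x, J x = l • (j • x) := ⟨_, fun x => rfl⟩
  obtain ⟨Sx, hSdef⟩ : ∃ Sx : V → V, ∀ x, Sx x = m • (s • x) := ⟨_, fun x => rfl⟩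
  have hJJ : ∀ x, J (J x) = ε • x := fun x => by
    rw [hJdef, hJdef]
    rw [φ.L_smul hjL, hjj, smul_smul, smul_smul, ← hle]; congr 1; ring
  have hSS : ∀ x, Sx (Sx x) = ε • x := fun x => by
    rw [hSdef, hSdef]
    rw [φ.L_smul hsL, hss, smul_smul, smul_smul, ← hme]; congr 1; ring
  have hSJ : ∀ x, Sx (J x) = -(J (Sx x)) := fun x => by
    rw [hSdef, hJdef, hJdef, hSdef]
    rw [φ.L_smul hsL, φ.L_smul hjL, hsjx, smul_neg, smul_neg, smul_comm m l]
  have hJsmul : ∀ (c : φ.K) x, J (c • x) = c • J x := fun c x => by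
    rw [hJdef, hJdef]
    rw [φ.L_smul hjL, smul_comm]
  have hSsmul : ∀ (c : φ.K) x, Sx (c • x) = c • Sx x := fun c x => by
    rw [hSdef, hSdef]
    rw [φ.L_smul hsL, smul_comm]
  have hJadd : ∀ x x', J (x + x') = J x + J x' := fun x x' => by simp only [hJdef, smul_add]
  have hSadd : ∀ x x', Sx (x + x') = Sx x + Sx x' := fun x x' => by simp only [hSdef, smul_add]
  have hcomm : ∀ p ∈ Zp, ∀ z ∈ Zc, ∀ x : V, z • p • x = p • z • x := fun p hp z hz x => by
    rw [← mul_smul, ← mul_smul, Subgroup.mem_centralizer_iff.mp (hZp.le hp).2 z hz]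
  have hWp : ∀ p ∈ Zp, ∀ x, φ.InBlock Zc v0 x → φ.InBlock Zc v0 (p • x) := fun p hp x hx z hz r hr => by
    rw [hcomm p hp z hz, hx z hz r hr, φ.L_smul (φ.F_le (hZpF hp))]
  obtain ⟨a, b, ha, hb, hab⟩ := φ.exists_coeff hQ7 h2 hε
  let E : V → V := fun x => a • J x + b • Sx x
  have hEE : ∀ x, E (E x) = x := fun x => by
    show a • J (a • J x + b • Sx x) + b • Sx (a • J x + b • Sx x) = x
    rw [hJadd, hSadd, hJsmul, hJsmul, hSsmul, hSsmul, hJJ, hSS, hSJ]
    match_scalars
    · linear_combination hab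
    · ring
  have hW0J : ∀ x, φ.InBlock Zc v0 x → φ.InBlock Zc v0 (J x) := fun x hx => hJdef x ▸ (hWp j hjZ x hx).smul hZL l
  have hW0S : ∀ x, φ.InBlock Zc v0 x → φ.InBlock Zc v0 (Sx x) := fun x hx => hSdef x ▸ (hWp s hsZ x hx).smul hZL m
  have hW0E : ∀ x, φ.InBlock Zc v0 x → φ.InBlock Zc v0 (E x) := fun x hx =>
    ((hW0J x hx).smul hZL a).add ((hW0S x hx).smul hZL b)
  obtain ⟨v, hv, hvW, hEv⟩ : ∃ v, v ≠ 0 ∧ φ.InBlock Zc v0 v ∧ E v = v := by
    have hfix : ∀ x, φ.InBlock Zc v0 x → x + E x ≠ 0 → ∃ v, v ≠ 0 ∧ φ.InBlock Zc v0 v ∧ E v = v := fun x hx hne =>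
      ⟨x + E x, hne, hx.add (hW0E x hx), by
        show a • J (x + E x) + b • Sx (x + E x) = x + E x
        rw [hJadd, hSadd, smul_add, smul_add]
        calc a • J x + a • J (E x) + (b • Sx x + b • Sx (E x)) = E x + E (E x) := by simp only [E]; abel
          _ = x + E x := by rw [hEE, add_comm]⟩
    have hW0 := φ.inBlock_self Zc v0
    by_cases h1 : v0 + E v0 ≠ 0
    · exact hfix _ hW0 h1
    by_cases h3 : J v0 + E (J v0) ≠ 0
    · exact hfix _ (hW0J _ hW0) h3
    by_cases h4 : Sx v0 + E (Sx v0) ≠ 0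
    · exact hfix _ (hW0S _ hW0) h4
    exfalso
    push Not at h1 h3 h4
    have e1 : E (J v0) = (a * ε) • v0 - b • J (Sx v0) := by
      show a • J (J v0) + b • Sx (J v0) = _
      rw [hJJ, hSJ, smul_neg, smul_smul, sub_eq_add_neg]
    have e2 : J (E v0) = (a * ε) • v0 + b • J (Sx v0) := by
      show J (a • J v0 + b • Sx v0) = _
      rw [hJadd, hJsmul, hJsmul, hJJ, smul_smul]
    have hE0 : E v0 = -v0 := eq_neg_of_add_eq_zero_right h1
    have hEJ : E (J v0) = -J v0 := eq_neg_of_add_eq_zero_right h3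
    have hJneg : ∀ x, J (-x) = -J x := fun x => by simp only [hJdef, smul_neg]
    rw [hE0, hJneg] at e2
    rw [hEJ] at e1
    have hJv : J v0 = (-(a * ε)) • v0 := by
      have h5 : (2 : φ.K) • (-J v0) = (2 : φ.K) • ((a * ε) • v0) := by
        rw [two_smul, two_smul]
        calc -J v0 + -J v0 = ((a * ε) • v0 - b • J (Sx v0)) + ((a * ε) • v0 + b • J (Sx v0)) := by rw [← e1, ← e2]
          _ = _ := by abel
      have := smul_right_injective V h2 h5
      rw [neg_smul, ← this, neg_neg]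
    have f1 : E (Sx v0) = a • J (Sx v0) + (b * ε) • v0 := by
      show a • J (Sx v0) + b • Sx (Sx v0) = _
      rw [hSS, smul_smul]
    have f2 : Sx (E v0) = -(a • J (Sx v0)) + (b * ε) • v0 := by
      show Sx (a • J v0 + b • Sx v0) = _
      rw [hSadd, hSsmul, hSsmul, hSS, hSJ, smul_smul, smul_neg]
    have hES : E (Sx v0) = -Sx v0 := eq_neg_of_add_eq_zero_right h4
    have hSneg : ∀ x, Sx (-x) = -Sx x := fun x => by simp only [hSdef, smul_neg]
    rw [hE0, hSneg] at f2
    rw [hES] at f1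
    have hSv : Sx v0 = (-(b * ε)) • v0 := by
      have h5 : (2 : φ.K) • (-Sx v0) = (2 : φ.K) • ((b * ε) • v0) := by
        rw [two_smul, two_smul]
        calc -Sx v0 + -Sx v0 = (a • J (Sx v0) + (b * ε) • v0) + (-(a • J (Sx v0)) + (b * ε) • v0) := by rw [← f1, ← f2]
          _ = _ := by abel
      have := smul_right_injective V h2 h5
      rw [neg_smul, ← this, neg_neg]
    have h6 := hSJ v0
    rw [hJv, hSsmul, hSv, hJsmul, hJv, smul_smul, smul_smul, ← neg_smul] at h6
    have h7 := φ.smul_left_cancel' hv0 h6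
    exact mul_ne_zero (mul_ne_zero h2 (mul_ne_zero ha hb)) (pow_ne_zero 2 hε0) (by linear_combination h7)
  have heig : ∀ z ∈ Zc, ∃ r : φ.K, z • v = r • v := fun z hz => by
    obtain ⟨r, hr⟩ := heig0 z hz
    exact ⟨r, hvW z hz r hr⟩
  have hW : ∀ x, φ.InBlock Zc v0 x → φ.InBlock Zc v x := fun x hx => φ.inBlock_congr hv heig0 hvW hx
  have hJeig : ∀ c : φ.K, J v ≠ c • v := by
    intro c h
    have hS : Sx v = ((1 - a * c) / b) • v := by
      have h' : a • J v + b • Sx v = v := hEv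
      rw [h, smul_smul] at h'
      rw [div_eq_inv_mul, ← smul_smul, eq_inv_smul_iff₀ hb, sub_smul, one_smul]
      exact eq_sub_of_add_eq' h'
    set d := (1 - a * c) / b
    have h1 := hSJ v
    rw [h, hSsmul, hS, hJsmul, h, smul_smul, smul_smul, ← neg_smul] at h1
    have hcd : 2 * (c * d) = 0 := by linear_combination φ.smul_left_cancel' hv h1
    have hc2 : c * c = ε := φ.smul_left_cancel' hv (by rw [← smul_smul, ← h, ← hJsmul, ← h, hJJ])
    have hd2 : d * d = ε := φ.smul_left_cancel' hv (by rw [← smul_smul, ← hS, ← hSsmul, ← hS, hSS])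
    rcases mul_eq_zero.mp ((mul_eq_zero.mp hcd).resolve_left h2) with e | e
    · rw [e, mul_zero] at hc2; exact hε0 hc2.symm
    · rw [e, mul_zero] at hd2; exact hε0 hd2.symm
  have hjeig : ∀ c : φ.K, j • v ≠ c • v := fun c h => hJeig (l * c) (by
    rw [hJdef, h, smul_smul])
  have hseig : ∀ c : φ.K, s • v ≠ c • v := by
    intro c h
    have h' : a • J v + b • Sx v = v := hEv
    have hS : Sx v = (m * c) • v := by rw [hSdef, h, smul_smul]
    rw [hS, smul_smul] at h'
    refine hJeig ((1 - b * (m * c)) / a) ?_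
    rw [div_eq_inv_mul, ← smul_smul, eq_inv_smul_iff₀ ha, sub_smul, one_smul]
    exact eq_sub_of_add_eq h'
  have hjseig : ∀ c : φ.K, (j * s) • v ≠ c • v := by
    intro c h
    have hJS : J (Sx v) = (l * m * c) • v := by
      rw [hJdef, hSdef, φ.L_smul hjL, ← mul_smul j, h, smul_smul, smul_smul]
    set e := l * m * c
    have h' : a • J v + b • Sx v = v := hEv
    have hA : a • (ε • v) + b • (J (Sx v)) = J v := by
      rw [← hJJ v, ← hJsmul a (J v), ← hJsmul b (Sx v), ← hJadd, h']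
    have hB : a • (-(J (Sx v))) + b • (ε • v) = Sx v := by
      rw [← hSS v, ← hSJ v, ← hSsmul a (J v), ← hSsmul b (Sx v), ← hSadd, h']
    rw [hJS, smul_smul, smul_smul, ← add_smul] at hA
    exact hJeig _ hA.symm
  have hne : ∀ n ∈ Zp, ∀ r : φ.K, n • v = r • v → n ∈ Zc := by
    intro n hn r hr
    obtain ⟨z, hz, hcases⟩ := hdec n hn
    obtain ⟨χ, hχ⟩ := heig z hz
    have hχ0 : χ ≠ 0 := fun e => hv ((smul_eq_zero_iff_eq z).mp (by rw [hχ, e, zero_smul]))
    have key : ∀ p, p ∈ Zp → (∀ c : φ.K, p • v ≠ c • v) → n ≠ z * p := by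
      intro p hp hpe e
      refine hpe (r / χ) ?_
      rw [e, mul_smul, (hW _ (hWp p hp v hvW)) z hz χ hχ] at hr
      rw [div_eq_inv_mul, ← smul_smul, ← hr, smul_smul, inv_mul_cancel₀ hχ0, one_smul]
    rcases hcases with e | e | e | e
    · exact e ▸ hz
    · exact absurd e (key j hjZ hjeig)
    · exact absurd e (key s hsZ hseig)
    · exact absurd e (key _ (mul_mem hjZ hsZ) hjseig)
  set w0 := (ω : φ.K) • J v with hw0def
  have hmain : ∀ g : A, g • v = v → g • w0 = w0 → g ∈ φ.L ∧ g • (j • v) = j • v := by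
    intro g hgv hgw
    have hgl : φ.conjK g ((ω : φ.K) * l) • ((g * j * g⁻¹) • v) = ((ω : φ.K) * l) • (j • v) := by
      rw [mul_smul, mul_smul, inv_smul_eq_iff.mpr hgv.symm, ← φ.smul_K]
      rw [hw0def] at hgw
      simpa only [hJdef, smul_smul] using hgw
    set lam := φ.conjKHom g ((ω : φ.K) * l) with hlam
    obtain ⟨π, hπ⟩ : ∃ π, π = g * j * g⁻¹ := ⟨_, rfl⟩
    rw [← hπ] at hgl
    have hωl : (ω : φ.K) * l ≠ 0 := mul_ne_zero hω0 hl
    have hlam0 : lam ≠ 0 := (map_ne_zero _).mpr hωl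
    have hπv : π • v = (lam⁻¹ * ((ω : φ.K) * l)) • (j • v) := by
      rw [← smul_smul, eq_inv_smul_iff₀ hlam0]
      exact hgl
    have hπF : π ∈ φ.F := hπ ▸ φ.F_normal.conj_mem j hj g
    obtain ⟨n, hndef⟩ : ∃ n, n = j⁻¹ * π := ⟨_, rfl⟩
    have hnv : n • v = (lam⁻¹ * ((ω : φ.K) * l)) • v := by
      rw [hndef, mul_smul, hπv, φ.L_smul (inv_mem hjL), inv_smul_smul]
    have hnp := φ.mem_pivot_of_eigen hZp (hZcp.trans hZpF) hv heig (hndef ▸ mul_mem (inv_mem hj) hπF) hnv
    have hnc := hne n hnp _ hnv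
    have hcm : Commute j n := (Subgroup.mem_centralizer_iff.mp (hZp.le hjZ).2 n hnc).symm
    have hπ2 : π ^ 2 = g * j ^ 2 * g⁻¹ := hπ ▸ conj_pow
    have hπeq : π = j * n := by rw [hndef, mul_inv_cancel_left]
    set χ := lam⁻¹ * ((ω : φ.K) * l) with hχ
    have hn2 : n ^ 2 ∈ φ.C := by
      have : n ^ 2 = (j ^ 2)⁻¹ * π ^ 2 := by rw [hπeq, hcm.mul_pow]; group
      rw [this, hπ2]
      exact mul_mem (inv_mem hj2) (φ.C_normal.conj_mem _ hj2 g)
    have hσ : φ.conjKHom g (φ.scal (j ^ 2) hj2) = φ.scal (j ^ 2) hj2 * χ ^ 2 := by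
      refine φ.smul_left_cancel' hv ?_
      rw [conjKHom_apply, ← φ.scal_conj g _ hj2, φ.scal_smul, ← hπ2, hπeq, hcm.mul_pow, mul_smul, sq n, mul_smul,
        hnv, φ.L_smul (φ.F_le (hndef ▸ mul_mem (inv_mem hj) hπF : n ∈ φ.F)), hnv, smul_smul, φ.L_smul (φ.F_le (φ.F.pow_mem hj 2)),
        ← φ.scal_smul _ hj2, smul_smul]
      congr 1
      ring
    have hεσ : φ.conjKHom g ε = ε := by rcases hε with rfl | ⟨rfl, -⟩ <;> simp
    have hsq : φ.conjK g (ω : φ.K) ^ 2 = (ω : φ.K) ^ 2 := by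
      have h1 := congrArg (φ.conjKHom g) hle
      rw [map_mul, map_pow, hσ, hεσ, ← hle, hχ] at h1
      have h1' : φ.scal (j ^ 2) hj2 * ((lam⁻¹ * ((ω : φ.K) * l)) ^ 2 * φ.conjKHom g l ^ 2) =
          φ.scal (j ^ 2) hj2 * l ^ 2 := by linear_combination h1
      have h3 := mul_left_cancel₀ (φ.scal_ne_zero _ hj2) h1'
      have hlamsplit : lam = φ.conjKHom g (ω : φ.K) * φ.conjKHom g l := map_mul _ _ _
      rw [hlamsplit] at h3
      have hσl : φ.conjKHom g l ≠ 0 := (map_ne_zero _).mpr hl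
      have hσω : φ.conjKHom g (ω : φ.K) ≠ 0 := (map_ne_zero _).mpr hω0
      field_simp at h3
      rw [← φ.conjKHom_apply]
      linear_combination -h3
    have hgL := φ.mem_L_of_conjK_gen g h2 ω hω hsq
    refine ⟨hgL, ?_⟩
    have hlam1 : lam = (ω : φ.K) * l := φ.conjK_of_mem hgL _
    rw [hπ, mul_smul, mul_smul, inv_smul_eq_iff.mpr hgv.symm, hχ, hlam1, inv_mul_cancel₀ hωl, one_smul] at hπv
    exact hπv
  have hfix : ∀ g : A, g • v = v → g • w0 = w0 → ∀ π ∈ Zp, g • (π • v) = π • v := by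
    intro g hgv hgw
    obtain ⟨hgL, hgj⟩ := hmain g hgv hgw
    have hgJ : g • J v = J v := by rw [hJdef, φ.L_smul hgL, hgj]
    have hgS : g • Sx v = Sx v := by
      have h' : a • J v + b • Sx v = v := hEv
      have h3 : b • Sx v = v - a • J v := eq_sub_of_add_eq' h'
      have := congrArg (g • ·) h3
      simp only [smul_sub, φ.L_smul hgL, hgv, hgJ] at this
      rw [← h3] at this
      exact smul_right_injective V hb this
    have hgs : g • (s • v) = s • v := by
      have : g • (m • (s • v)) = m • (s • v) := by rw [← hSdef]; exact hgS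
      rw [φ.L_smul hgL] at this
      exact smul_right_injective V hm this
    have hgjs : g • ((j * s) • v) = (j * s) • v := by
      have h' : a • J v + b • Sx v = v := hEv
      have hB : a • (-(J (Sx v))) + b • (ε • v) = Sx v := by
        rw [← hSS v, ← hSJ v, ← hSsmul a (J v), ← hSsmul b (Sx v), ← hSadd, h']
      rw [smul_neg, neg_add_eq_iff_eq_add] at hB
      have hJS : a • J (Sx v) = b • (ε • v) - Sx v := eq_sub_of_add_eq hB.symm
      have h1 := congrArg (g • ·) hJS
      simp only [smul_sub, φ.L_smul hgL, hgv, hgS] at h1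
      rw [← hJS] at h1
      have h3 := smul_right_injective V ha h1
      simp only [hJdef, hSdef, φ.L_smul hjL, φ.L_smul hgL] at h3
      rw [mul_smul]
      exact smul_right_injective V hm (smul_right_injective V hl h3)
    intro π hπ
    obtain ⟨z, hz, hcases⟩ := hdec π hπ
    obtain ⟨χ, hχ⟩ := heig z hz
    have key : ∀ p, p ∈ Zp → g • (p • v) = p • v → π = z * p → g • (π • v) = π • v := by
      intro p hp hgp e
      rw [e, mul_smul, (hW _ (hWp p hp v hvW)) z hz χ hχ, φ.L_smul hgL, hgp]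
    rcases hcases with e | e | e | e
    · exact key 1 (one_mem _) (by rw [one_smul, hgv]) (by rw [e, mul_one])
    · exact key j hjZ hgj e
    · exact key s hsZ hgs e
    · exact key _ (mul_mem hjZ hsZ) hgjs e
  have h41 : (ω : φ.K) ^ 4 ≠ 1 := fun h => by
    have := Nat.le_of_dvd four_pos (hKodd 4 h)
    omega
  have hgJv : ∀ g : A, g • v = v → g • w0 = w0 → g • J v = J v := fun g h1 h3 => by
    rw [hJdef, φ.L_smul (hmain g h1 h3).1, (hmain g h1 h3).2]
  rcases hε with rfl | ⟨rfl, hns⟩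
  · refine φ.pair_of_pivot Zc Zp v w0 ((ω : φ.K) • v) (v + J v) ω hCZ hZcp hZp hv heig hne
      ((hW _ (hW0J v hvW)).smul hZL _) (fun g h1 h3 => (hmain g h1 h3).1) hfix rfl
      (hW _ (hvW.add (hW0J v hvW))) (fun h => hJeig (-1) (by rw [neg_one_smul]; exact eq_neg_of_add_eq_zero_right h))
      hω0 (fun g h1 h3 => by rw [smul_add, h1, hgJv g h1 h3]) hodd ?_
    intro f _ _ _
    refine ⟨h41, fun π hπ x y hx hy _ => ?_⟩
    set u := v + J v with hu
    have hJu : J u = u := by rw [hu, hJadd, hJJ, one_smul, add_comm]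
    have hπL := φ.F_le (hZpF hπ)
    have hJπ : ∀ x, J (π • x) = π • J x ∨ J (π • x) = -(π • J x) := by
      intro x
      have h1 : j • π • x = ⁅j, π⁆ • π • j • x := by
        rw [← mul_smul, ← mul_smul, ← mul_smul]; congr 1; rw [commutatorElement_def]; group
      have hc := φ.comm_swap hj (hZpF hπ)
      have hJ : J (π • x) = φ.scal ⁅j, π⁆ (φ.comm_mem j hj π (hZpF hπ)) • (π • J x) := by
        rw [hJdef, hJdef]
        rw [h1, ← φ.scal_smul _ (φ.comm_mem j hj π (hZpF hπ)), φ.L_smul hπL, smul_comm]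
      rcases φ.comm_pm hj (hZpF hπ) hj2 with h | h <;> rw [h] at hc
      · left; rw [hJ, hc, inv_one, one_smul]
      · right; rw [hJ, hc, inv_neg, inv_one, neg_one_smul]
    -- `v` is not mapped to a multiple of `u`, nor `u` to a multiple of `v`
    have hA : ∀ c : φ.K, π • v ≠ c • u := by
      intro c h
      have hJpv : J (π • v) = π • v := by rw [h, hJsmul, hJu]
      rcases hJπ v with e | e <;> rw [hJpv] at e
      · exact hJeig 1 (by rw [one_smul]; exact (MulAction.injective π e).symm)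
      · refine hJeig (-1) ?_
        rw [← smul_neg] at e
        rw [neg_one_smul]
        exact neg_eq_iff_eq_neg.mp (MulAction.injective π e).symm
    have hB : ∀ c : φ.K, π • u ≠ c • v := by
      intro c h
      have hc0 : c ≠ 0 := fun e => hJeig (-1) (by
        rw [e, zero_smul, smul_eq_zero_iff_eq] at h
        rw [neg_one_smul]; exact eq_neg_of_add_eq_zero_right h)
      have e := hJπ u
      rw [hJu, h, hJsmul] at e
      rcases e with e | e
      · exact hJeig 1 (by rw [one_smul]; exact smul_right_injective V hc0 e)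
      · exact hJeig (-1) (by
          rw [neg_one_smul]
          rw [← smul_neg] at e
          exact smul_right_injective V hc0 e)
    have hcan : ∀ (p q : φ.K) (X Y : V), p ≠ 0 → π • (p • X) = q • Y → π • X = (q / p) • Y := by
      intro p q X Y hp h
      rw [φ.L_smul hπL] at h
      rw [div_eq_inv_mul, ← smul_smul, ← h, smul_smul, inv_mul_cancel₀ hp, one_smul]
    refine ⟨fun h => hA _ (hcan _ _ _ _ hx h), fun h => ?_, fun h => hB _ (hcan _ _ _ _ hx h), fun h => ?_⟩
    · rw [smul_smul] at h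
      exact hA _ (hcan _ _ _ _ (mul_ne_zero hx hω0) h)
    · rw [smul_smul] at h
      exact hB _ (hcan _ _ _ _ hx h)
  · refine φ.pair_of_pivot Zc Zp v w0 ((ω : φ.K) • v) ((ω : φ.K) ^ 2 • v) ω hCZ hZcp hZp hv heig hne
      ((hW _ (hW0J v hvW)).smul hZL _) (fun g h1 h3 => (hmain g h1 h3).1) hfix rfl
      ((φ.inBlock_self Zc v).smul hZL _) (smul_ne_zero (pow_ne_zero _ hω0) hv) hω0
      (fun g h1 h3 => by rw [φ.L_smul (hmain g h1 h3).1, h1]) hodd ?_
    intro f _ _ _
    refine ⟨h41, fun π hπ x y hx hy hsc => ?_⟩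
    have hn4 : ¬ (4 ∣ Nat.card φ.K - 1) := by
      rintro ⟨q, hq⟩
      refine hns ⟨(ω : φ.K) ^ q, ?_⟩
      have h4 : ((ω : φ.K) ^ (2 * q)) ^ 2 = 1 := by
        rw [← pow_mul, show 2 * q * 2 = orderOf (ω : φ.K) by rw [hord, hq]; ring]; exact pow_orderOf_eq_one _
      rcases sq_eq_one_iff.mp h4 with e | e
      · have := Nat.le_of_dvd (by omega) (hKodd _ e); omega
      · rw [← e, ← pow_add]; ring_nf
    have hπL := φ.F_le (hZpF hπ)
    have h8 : (ω : φ.K) ^ 8 ≠ 1 := fun h => by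
      have hd := hKodd 8 h
      have hle8 := Nat.le_of_dvd (by norm_num) hd
      obtain ⟨q, hq⟩ := hKeven
      rcases (show Nat.card φ.K - 1 = 6 ∨ Nat.card φ.K - 1 = 8 by omega) with e | e
      · rw [e] at hd; omega
      · exact hn4 ⟨2, by omega⟩
    have key : ∀ p q : φ.K, p ≠ 0 → π • (x • (p • v)) = y • (q • v) → (q / p) ^ 4 = 1 := by
      intro p q hp h
      have h' : π • v = (y * q / (x * p)) • v := by
        rw [φ.L_smul hπL, φ.L_smul hπL, smul_smul, smul_smul] at h
        rw [div_eq_inv_mul, ← smul_smul, eq_inv_smul_iff₀ (mul_ne_zero hx hp), h]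
      have := hsc _ h'
      rwa [show y * q / (x * p) * x / y = q / p by field_simp] at this
    refine ⟨fun h => ?_, fun h => ?_, fun h => ?_, fun h => ?_⟩
    · rw [← one_smul φ.K v, smul_smul] at h
      have := key 1 ((ω : φ.K) ^ 2) one_ne_zero (by simpa using h)
      rw [div_one, ← pow_mul] at this
      exact h8 this
    · have := key ω ((ω : φ.K) ^ 2) hω0 h
      rw [sq, mul_div_cancel_right₀ _ hω0] at this
      exact h41 this
    · have := key ((ω : φ.K) ^ 2) 1 (pow_ne_zero _ hω0) (by simpa using h)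
      rw [one_div, inv_pow, inv_eq_one, ← pow_mul] at this
      exact h8 this
    · have := key ((ω : φ.K) ^ 2) ω (pow_ne_zero _ hω0) h
      rw [sq, div_self_mul_self', inv_pow, inv_eq_one] at this
      exact h41 this

end CfsgLib.OddPair.Frame
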