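import Cfsg.Agent.EvenPair.Block

/-!
Powers of elements of the class-two subgroup of a frame as scalars.
-/

set_option autoImplicit false
set_option linter.style.haveILetI false

open scoped commutatorElement

namespace CfsgLib.OddPair.Frame

variable {A V : Type} [Group A] [Finite A] [AddCommGroup V] [Finite V] [Nontrivial V] [DistribMulAction A V]
variable (φ : Frame A V)

/-- The action on scalars as a ring homomorphism. -/
noncomputable def conjKHom (g : A) : φ.K →+* φ.K where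
  toFun := φ.conjK g
  map_one' := Subtype.ext (by
    show endHom A V g * 1 * endHom A V g⁻¹ = 1
    rw [mul_one, ← map_mul, mul_inv_cancel, map_one])
  map_mul' r s := Subtype.ext (conjEnd_mul g (r : AddMonoid.End V) (s : AddMonoid.End V))
  map_zero' := Subtype.ext (by
    show endHom A V g * 0 * endHom A V g⁻¹ = 0
    rw [mul_zero, zero_mul])
  map_add' r s := Subtype.ext (by
    show endHom A V g * ((r : AddMonoid.End V) + s) * endHom A V g⁻¹ =
      endHom A V g * r * endHom A V g⁻¹ + endHom A V g * s * endHom A V g⁻¹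
    rw [mul_add, add_mul])

theorem conjKHom_apply (g : A) (r : φ.K) : φ.conjKHom g r = φ.conjK g r := rfl

theorem scal_mul (c d : A) (hc : c ∈ φ.C) (hd : d ∈ φ.C) :
    φ.scal (c * d) (φ.C.mul_mem hc hd) = φ.scal c hc * φ.scal d hd :=
  Subtype.ext (map_mul (endHom A V) c d)

theorem scal_congr {c d : A} (h : c = d) (hc : c ∈ φ.C) (hd : d ∈ φ.C) : φ.scal c hc = φ.scal d hd :=
  Subtype.ext (congrArg (endHom A V) h)

theorem scal_one : φ.scal 1 φ.C.one_mem = 1 := Subtype.ext (map_one (endHom A V))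

theorem scal_pow (c : A) (hc : c ∈ φ.C) (n : ℕ) : φ.scal (c ^ n) (φ.C.pow_mem hc n) = φ.scal c hc ^ n :=
  Subtype.ext (by rw [SubmonoidClass.coe_pow]; exact map_pow (endHom A V) c n)

variable [FaithfulSMul A V]

theorem scal_ne_zero (c : A) (hc : c ∈ φ.C) : φ.scal c hc ≠ 0 := by
  intro h
  obtain ⟨x, hx⟩ := exists_ne (0 : V)
  exact hx ((smul_eq_zero_iff_eq c).mp (by rw [← φ.scal_smul c hc, h, zero_smul]))

theorem scal_eq_one {c : A} (hc : c ∈ φ.C) (h : φ.scal c hc = 1) : c = 1 :=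
  eq_of_smul_eq_smul (α := V) fun x => by rw [← φ.scal_smul c hc x, h, one_smul, one_smul]

theorem scal_conj (g c : A) (hc : c ∈ φ.C) :
    φ.scal (g * c * g⁻¹) (φ.C_normal.conj_mem c hc g) = φ.conjK g (φ.scal c hc) := by
  refine Subtype.ext ?_
  show endHom A V (g * c * g⁻¹) = endHom A V g * endHom A V c * endHom A V g⁻¹
  rw [map_mul, map_mul]

/-- Powers of a product in the class-two subgroup. -/
theorem mul_pow_eq {f g : A} (hf : f ∈ φ.F) (hg : g ∈ φ.F) (n : ℕ) :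
    (f * g) ^ n = f ^ n * g ^ n * ⁅g, f⁆ ^ n.choose 2 := by
  set c := ⁅g, f⁆ with hc
  have hcC : c ∈ φ.C := φ.comm_mem g hg f hf
  have hcf : ∀ x ∈ φ.F, c * x = x * c := fun x hx => φ.comm_C_L hcC (φ.F_le hx)
  have hgf : ∀ m : ℕ, g ^ m * f = f * g ^ m * c ^ m := by
    intro m
    induction m with
    | zero => simp
    | succ m ih =>
      have h1 : g * f = f * g * c := by
        rw [mul_assoc f g c, ← hcf g hg, ← mul_assoc, ← hcf f hf, hc, commutatorElement_def]; group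
      calc g ^ (m + 1) * f = g ^ m * (g * f) := by rw [pow_succ, mul_assoc]
        _ = (g ^ m * f) * g * c := by rw [h1]; group
        _ = f * g ^ m * (c ^ m * g) * c := by rw [ih]; group
        _ = f * g ^ m * (g * c ^ m) * c := by
            rw [(Commute.pow_left (show Commute c g from hcf g hg) m).eq]
        _ = f * g ^ (m + 1) * c ^ (m + 1) := by rw [pow_succ g, pow_succ c]; group
  induction n with
  | zero => simp
  | succ n ih =>
    have hcp : ∀ x ∈ φ.F, ∀ k : ℕ, c ^ k * x = x * c ^ k := fun x hx k =>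
      (Commute.pow_left (show Commute c x from hcf x hx) k).eq
    calc (f * g) ^ (n + 1) = f ^ n * g ^ n * (c ^ n.choose 2 * f) * g := by rw [pow_succ, ih]; group
      _ = f ^ n * (g ^ n * f) * (c ^ n.choose 2 * g) := by rw [hcp f hf]; group
      _ = f ^ n * (f * g ^ n * c ^ n) * (g * c ^ n.choose 2) := by rw [hgf, hcp g hg]
      _ = f ^ n * f * g ^ n * (c ^ n * g) * c ^ n.choose 2 := by group
      _ = f ^ n * f * (g ^ n * g) * (c ^ n * c ^ n.choose 2) := by rw [hcp g hg]; group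
      _ = f ^ (n + 1) * g ^ (n + 1) * c ^ (n + 1).choose 2 := by
          rw [← pow_succ, ← pow_succ, ← pow_add, Nat.choose_succ_succ', Nat.choose_one_right]

/-- A commutator with an element whose power is central. -/
theorem scal_comm_pow {f g : A} (hf : f ∈ φ.F) (hg : g ∈ φ.F) {r : ℕ} (hfr : f ^ r ∈ φ.C) :
    φ.scal ⁅g, f⁆ (φ.comm_mem g hg f hf) ^ r = 1 := by
  rw [← φ.scal_pow]
  refine (φ.scal_congr ?_ _ φ.C.one_mem).trans φ.scal_one
  set c := ⁅g, f⁆ with hc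
  have hcC : c ∈ φ.C := φ.comm_mem g hg f hf
  have hconj : g * f * g⁻¹ = c * f := by rw [hc, commutatorElement_def]; group
  have h1 : (c * f) ^ r = f ^ r := by
    rw [← hconj, conj_pow, ← φ.comm_C_L hfr (φ.F_le hg), mul_inv_cancel_right]
  rwa [(show Commute c f from φ.comm_C_L hcC (φ.F_le hf)).mul_pow, mul_eq_right] at h1

/-- The sign of a binomial power of a commutator. -/
theorem comm_sign {f g : A} (hf : f ∈ φ.F) (hg : g ∈ φ.F) {r : ℕ} (hr : r.Prime) (hfr : f ^ r ∈ φ.C) :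
    ∃ ε : φ.K, (ε = 1 ∨ r = 2 ∧ ε = -1) ∧ φ.scal ⁅g, f⁆ (φ.comm_mem g hg f hf) ^ r.choose 2 = ε := by
  have h := φ.scal_comm_pow hf hg hfr
  refine ⟨_, ?_, rfl⟩
  rcases hr.eq_two_or_odd' with rfl | hodd
  · rw [Nat.choose_self, pow_one]
    rcases sq_eq_one_iff.mp h with h' | h'
    · exact Or.inl h'
    · exact Or.inr ⟨rfl, h'⟩
  · left
    obtain ⟨m, hm⟩ := hodd
    rw [Nat.choose_two_right, show r * (r - 1) / 2 = r * m by
      subst hm; rw [show 2 * m + 1 - 1 = 2 * m by omega, ← mul_assoc, mul_comm (2 * m + 1) 2, mul_assoc,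
        Nat.mul_div_cancel_left _ two_pos], pow_mul, h, one_pow]

/-- The quotient of `F` by `C` has squarefree exponent. -/
theorem pow_prime_mem [Group.IsSolvable A] {f : A} (hf : f ∈ φ.F) {r : ℕ} (h : (f ^ r) ^ r ∈ φ.C) :
    f ^ r ∈ φ.C := by
  let q := QuotientGroup.mk' φ.C
  have hq : ∀ x, q x = 1 ↔ x ∈ φ.C := fun x => QuotientGroup.eq_one_iff x
  have hcom : ∀ x ∈ φ.F, ∀ y ∈ φ.F, Commute (q x) (q y) := fun x hx y hy =>
    commutatorElement_eq_one_iff_mul_comm.mp (by rw [← map_commutatorElement]; exact (hq _).mpr (φ.comm_mem x hx y hy))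
  let W : Subgroup A :=
    { carrier := {x | x ∈ φ.F ∧ x ^ r ∈ φ.C}
      one_mem' := ⟨one_mem _, by rw [one_pow]; exact one_mem _⟩
      mul_mem' := fun {x y} hx hy => ⟨mul_mem hx.1 hy.1, (hq _).mp (by
        rw [map_pow, map_mul, (hcom x hx.1 y hy.1).mul_pow, ← map_pow, ← map_pow, (hq _).mpr hx.2,
          (hq _).mpr hy.2, one_mul])⟩
      inv_mem' := fun {x} hx => ⟨inv_mem hx.1, by rw [inv_pow]; exact inv_mem hx.2⟩ }
  haveI : W.Normal := ⟨fun x hx a => ⟨φ.F_normal.conj_mem x hx.1 a, by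
    rw [conj_pow]; exact φ.C_normal.conj_mem _ hx.2 a⟩⟩
  obtain ⟨W', -, -, hW'F, hinf, hsup⟩ := φ.exists_complement W (fun c hc => ⟨φ.C_le hc, pow_mem hc r⟩) fun x hx => hx.1
  obtain ⟨w, hw, w', hw', rfl⟩ := Subgroup.mem_sup_of_normal_left.mp (hsup.ge hf)
  rw [← hinf]
  refine ⟨⟨pow_mem hf r, h⟩, ?_⟩
  have h1 : (w' ^ r)⁻¹ * (w * w') ^ r ∈ φ.C := (hq _).mp (by
    rw [map_mul, map_pow, map_mul, (hcom w hw.1 w' (hW'F hw')).mul_pow, ← map_pow q w, (hq _).mpr hw.2, one_mul,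
      map_inv, map_pow, inv_mul_cancel])
  have h2 := mul_mem (pow_mem hw' r) ((hinf.ge h1).2 : (w' ^ r)⁻¹ * (w * w') ^ r ∈ W')
  rwa [mul_inv_cancel_left] at h2

/-- Prime powers of `F` landing in `C` are plus or minus powers of scalars. -/
theorem exists_root_scalar [Group.IsSolvable A] {f : A} (hf : f ∈ φ.F) {r : ℕ} (hr : r.Prime) (hfr : f ^ r ∈ φ.C) :
    ∃ t ε : φ.K, t ≠ 0 ∧ (ε = 1 ∨ r = 2 ∧ ε = -1) ∧ φ.scal (f ^ r) hfr * t ^ r = ε := by
  classical
  let P : Subgroup φ.Kˣ :=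
    { carrier := {u | ∃ (t : φ.K) (ε : φ.K), t ≠ 0 ∧ (ε = 1 ∨ r = 2 ∧ ε = -1) ∧ (u : φ.K) * t ^ r = ε}
      one_mem' := ⟨1, 1, one_ne_zero, Or.inl rfl, by rw [Units.val_one, one_pow, one_mul]⟩
      mul_mem' := by
        rintro u u' ⟨t, ε, ht, hε, h⟩ ⟨t', ε', ht', hε', h'⟩
        refine ⟨t * t', ε * ε', mul_ne_zero ht ht', ?_, by rw [Units.val_mul, mul_pow, ← h, ← h']; ring⟩
        rcases hε with rfl | ⟨hr2, rfl⟩ <;> rcases hε' with rfl | ⟨hr2', rfl⟩
        · exact Or.inl (one_mul _)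
        · exact Or.inr ⟨hr2', one_mul _⟩
        · exact Or.inr ⟨hr2, mul_one _⟩
        · exact Or.inl (by ring)
      inv_mem' := by
        rintro u ⟨t, ε, ht, hε, h⟩
        refine ⟨t⁻¹, ε, inv_ne_zero ht, hε, ?_⟩
        have hεi : ε⁻¹ = ε := by rcases hε with rfl | ⟨-, rfl⟩ <;> simp [inv_neg]
        rw [Units.val_inv_eq_inv_val, inv_pow, ← mul_inv, h, hεi] }
  let q : φ.Kˣ →* φ.Kˣ ⧸ P := QuotientGroup.mk' P
  have hP : ∀ u, q u = 1 ↔ u ∈ P := fun u => QuotientGroup.eq_one_iff u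
  let U : Subgroup A :=
    { carrier := {x | x ∈ φ.F ∧ x ^ r ∈ φ.C}
      one_mem' := ⟨one_mem _, by rw [one_pow]; exact one_mem _⟩
      mul_mem' := fun {x y} hx hy => ⟨mul_mem hx.1 hy.1, by
        rw [φ.mul_pow_eq hx.1 hy.1]
        exact mul_mem (mul_mem hx.2 hy.2) (pow_mem (φ.comm_mem y hy.1 x hx.1) _)⟩
      inv_mem' := fun {x} hx => ⟨inv_mem hx.1, by rw [inv_pow]; exact inv_mem hx.2⟩ }
  haveI hUn : U.Normal := ⟨fun x hx a => ⟨φ.F_normal.conj_mem x hx.1 a, by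
    rw [conj_pow]; exact φ.C_normal.conj_mem _ hx.2 a⟩⟩
  let h : U →* φ.Kˣ ⧸ P :=
    MonoidHom.mk' (fun x => q (φ.unitHom ⟨(x : A) ^ r, x.2.2⟩)) fun x y => by
      rw [← map_mul q]
      refine (QuotientGroup.eq_iff_div_mem).mpr ?_
      obtain ⟨ε, hε, he⟩ := φ.comm_sign x.2.1 y.2.1 hr x.2.2
      refine ⟨1, ε, one_ne_zero, hε, ?_⟩
      rw [one_pow, mul_one, Units.val_div_eq_div_val, Units.val_mul,
        div_eq_iff (mul_ne_zero (Units.ne_zero _) (Units.ne_zero _)), ← he]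
      refine Subtype.ext ?_
      show endHom A V (((x : A) * (y : A)) ^ r) =
        ((φ.scal ⁅(y : A), (x : A)⁆ _ ^ r.choose 2 : φ.K) : AddMonoid.End V) * (endHom A V ((x : A) ^ r) * endHom A V ((y : A) ^ r))
      rw [φ.mul_pow_eq x.2.1 y.2.1, map_mul, map_mul]
      change _ = endHom A V ⁅(y : A), (x : A)⁆ ^ r.choose 2 * _
      rw [← map_pow, ← map_mul, ← map_mul, ← map_mul, φ.comm_C_L (pow_mem (φ.comm_mem _ y.2.1 _ x.2.1) _)
        (φ.F_le (mul_mem (pow_mem x.2.1 r) (pow_mem y.2.1 r)))]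
  let W : Subgroup A := h.ker.map U.subtype
  have hWmem : ∀ x, x ∈ W ↔ ∃ hx : x ∈ U, h ⟨x, hx⟩ = 1 := fun x => by
    simp [W, MonoidHom.mem_ker]
  haveI : W.Normal := ⟨fun x hx a => by
    obtain ⟨hxU, hx1⟩ := (hWmem x).mp hx
    refine (hWmem _).mpr ⟨hUn.conj_mem x hxU a, (hP _).mpr ?_⟩
    obtain ⟨t, ε, ht, hε, he⟩ := (hP _).mp hx1
    refine ⟨φ.conjKHom a t, ε, (map_ne_zero _).mpr ht, hε, ?_⟩
    have hεa : φ.conjKHom a ε = ε := by
      rcases hε with rfl | ⟨-, rfl⟩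
      · exact map_one _
      · rw [map_neg, map_one]
    rw [← hεa, ← he, map_mul, map_pow]
    congr 1
    rw [conjKHom_apply]
    exact ((φ.scal_congr conj_pow (hUn.conj_mem x hxU a).2 (φ.C_normal.conj_mem _ hxU.2 a)).trans (φ.scal_conj a _ hxU.2) :)⟩
  have hCW : φ.C ≤ W := fun c hc => (hWmem c).mpr ⟨⟨φ.C_le hc, pow_mem hc r⟩, (hP _).mpr
    ⟨(φ.scal c hc)⁻¹, 1, inv_ne_zero (φ.scal_ne_zero c hc), Or.inl rfl, by
      change φ.scal (c ^ r) (φ.C.pow_mem hc r) * _ = _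
      rw [φ.scal_pow c hc, inv_pow, mul_inv_cancel₀ (pow_ne_zero _ (φ.scal_ne_zero c hc))]⟩⟩
  have hWU : W ≤ U := fun x hx => ((hWmem x).mp hx).1
  obtain ⟨W', hW'n, hCW', hW'F, hinf, hsup⟩ := φ.exists_complement W hCW fun x hx => (hWU hx).1
  haveI := hW'n
  let X : Subgroup A := W' ⊓ U
  have hXC : X = φ.C := by
    refine φ.C_max X inferInstance ?_ (le_inf hCW' fun c hc => ⟨φ.C_le hc, pow_mem hc r⟩)
    intro x hx y hy
    haveI : IsCyclic (φ.Kˣ ⧸ P) := isCyclic_of_surjective q (QuotientGroup.mk'_surjective P)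
    let h' : X →* φ.Kˣ ⧸ P := h.comp (Subgroup.inclusion inf_le_right)
    refine congrArg Subtype.val (commutative_of_cyclic_center_quotient h' ?_ ⟨x, hx⟩ ⟨y, hy⟩)
    intro z hz
    have hzC : (z : A) ∈ φ.C := hinf.le ⟨(hWmem _).mpr ⟨z.2.2, hz⟩, z.2.1⟩
    exact Subgroup.mem_center_iff.mpr fun u =>
      Subtype.ext (φ.comm_C_L hzC (φ.F_le u.2.2.1)).symm
  obtain ⟨w, hw, w', hw', hww⟩ := Subgroup.mem_sup_of_normal_left.mp (hsup.ge hf)
  have hw'U : w' ∈ U := by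
    have h1 : f ∈ U := ⟨hf, hfr⟩
    rw [← hww] at h1
    have h2 := mul_mem (inv_mem (hWU hw)) h1
    rwa [inv_mul_cancel_left] at h2
  have hfW : f ∈ W := by
    rw [← hww]
    exact mul_mem hw (hCW (hXC.le ⟨hw', hw'U⟩))
  obtain ⟨hfU, hf1⟩ := (hWmem f).mp hfW
  exact (hP _).mp hf1

end CfsgLib.OddPair.Frame
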