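import Cfsg.Agent.EvenPair.Norm

/-!
An abelian subgroup between `C` and `F` with a common eigenvector and small centraliser quotient.
-/

set_option autoImplicit false
set_option linter.style.haveILetI false

open scoped commutatorElement

namespace CfsgLib.OddPair.Frame

variable {A V : Type} [Group A] [Finite A] [AddCommGroup V] [Finite V] [Nontrivial V] [DistribMulAction A V]
variable (φ : Frame A V)

/-- The square scalar of an element is a square whenever the square is central. -/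
def IsSplit (z : A) : Prop := ∀ h : z ^ 2 ∈ φ.C, ∃ t : φ.K, t ≠ 0 ∧ φ.scal (z ^ 2) h * t ^ 2 = 1

/-- Two coprime powers in a subgroup. -/
theorem mem_of_coprime_pow {M : Subgroup A} {x : A} {m n : ℕ} (h : m.Coprime n) (hm : x ^ m ∈ M) (hn : x ^ n ∈ M) :
    x ∈ M := by
  have e := Nat.gcd_eq_gcd_ab m n
  rw [h] at e
  have h1 := mul_mem (zpow_mem hm (m.gcdA n)) (zpow_mem hn (m.gcdB n))
  rwa [← zpow_natCast, ← zpow_natCast, ← zpow_mul, ← zpow_mul, ← zpow_add, ← e, Nat.cast_one, zpow_one] at h1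

variable [FaithfulSMul A V]

theorem comm_scal_mul_left {x y t : A} (hx : x ∈ φ.F) (hy : y ∈ φ.F) (ht : t ∈ φ.F) :
    φ.scal ⁅x * y, t⁆ (φ.comm_mem _ (mul_mem hx hy) _ ht) =
      φ.scal ⁅x, t⁆ (φ.comm_mem _ hx _ ht) * φ.scal ⁅y, t⁆ (φ.comm_mem _ hy _ ht) := by
  have hc : ⁅y, t⁆ ∈ φ.C := φ.comm_mem _ hy _ ht
  have hd : ⁅x, t⁆ ∈ φ.C := φ.comm_mem _ hx _ ht
  rw [← φ.scal_mul _ _ hd hc]
  refine φ.scal_congr ?_ _ _
  rw [φ.C_comm _ hd _ hc]
  calc ⁅x * y, t⁆ = x * ⁅y, t⁆ * x⁻¹ * ⁅x, t⁆ := by simp only [commutatorElement_def]; group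
    _ = ⁅y, t⁆ * ⁅x, t⁆ := by rw [← φ.comm_C_L hc (φ.F_le hx), mul_inv_cancel_right]

theorem commute_of_scal {x y : A} (hx : x ∈ φ.F) (hy : y ∈ φ.F)
    (h : φ.scal ⁅x, y⁆ (φ.comm_mem _ hx _ hy) = 1) : x * y = y * x :=
  commutatorElement_eq_one_iff_mul_comm.mp (φ.scal_eq_one _ h)

theorem scal_of_commute {x y : A} (hx : x ∈ φ.F) (hy : y ∈ φ.F) (h : x * y = y * x) :
    φ.scal ⁅x, y⁆ (φ.comm_mem _ hx _ hy) = 1 :=
  (φ.scal_congr (commutatorElement_eq_one_iff_mul_comm.mpr h) _ φ.C.one_mem).trans φ.scal_one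

/-- An element with central square commutes up to sign. -/
theorem comm_pm {f g : A} (hf : f ∈ φ.F) (hg : g ∈ φ.F) (hfr : f ^ 2 ∈ φ.C) :
    φ.scal ⁅g, f⁆ (φ.comm_mem g hg f hf) = 1 ∨ φ.scal ⁅g, f⁆ (φ.comm_mem g hg f hf) = -1 :=
  sq_eq_one_iff.mp (φ.scal_comm_pow hf hg hfr)

theorem comm_swap {f g : A} (hf : f ∈ φ.F) (hg : g ∈ φ.F) :
    φ.scal ⁅f, g⁆ (φ.comm_mem f hf g hg) = (φ.scal ⁅g, f⁆ (φ.comm_mem g hg f hf))⁻¹ := by
  refine eq_inv_of_mul_eq_one_left ?_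
  rw [← φ.scal_mul]
  refine (φ.scal_congr ?_ _ φ.C.one_mem).trans φ.scal_one
  rw [← commutatorElement_inv, inv_mul_cancel]

theorem scal_sq_mul {f g : A} (hf : f ∈ φ.F) (hg : g ∈ φ.F) (hf2 : f ^ 2 ∈ φ.C) (hg2 : g ^ 2 ∈ φ.C)
    (h : (f * g) ^ 2 ∈ φ.C) :
    φ.scal ((f * g) ^ 2) h =
      φ.scal (f ^ 2) hf2 * φ.scal (g ^ 2) hg2 * φ.scal ⁅g, f⁆ (φ.comm_mem g hg f hf) := by
  rw [← φ.scal_mul _ _ hf2 hg2, ← φ.scal_mul]
  refine φ.scal_congr ?_ _ _
  rw [φ.mul_pow_eq hf hg, Nat.choose_self, pow_one]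

variable [Group.IsSolvable A]

/-- Centralisers inside `F` of subgroups containing `C` are involutive. -/
theorem centralizer_centralizer_le (M : Subgroup A) (hCM : φ.C ≤ M) (hMF : M ≤ φ.F) :
    φ.F ⊓ Subgroup.centralizer ((φ.F ⊓ Subgroup.centralizer (M : Set A) : Subgroup A) : Set A) = M := by
  set N := φ.F ⊓ Subgroup.centralizer (M : Set A) with hN
  set M2 := φ.F ⊓ Subgroup.centralizer (N : Set A) with hM2
  have hMM2 : M ≤ M2 := le_inf hMF fun m hm => Subgroup.mem_centralizer_iff.mpr fun x hx =>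
    (Subgroup.mem_centralizer_iff.mp hx.2 m hm).symm
  have key : ∀ X : Subgroup A, φ.C ≤ X → X ≤ φ.F →
      φ.C.relIndex X = (φ.F ⊓ Subgroup.centralizer (X : Set A)).relIndex φ.F := by
    intro X hCX hXF
    have h1 := φ.relIndex_centralizer_eq (M := X) (N := φ.F) (hXF.trans φ.F_le) φ.F_le fun m hm n hn =>
      φ.comm_mem m (hXF hm) n hn
    rw [φ.centralizer_F] at h1
    rw [h1, inf_comm, Subgroup.inf_relIndex_right]
  have h1 := key M hCM hMF
  have h2 := key M2 (hCM.trans hMM2) inf_le_left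
  have h3 : N ≤ φ.F ⊓ Subgroup.centralizer (M2 : Set A) := le_inf inf_le_left fun x hx =>
    Subgroup.mem_centralizer_iff.mpr fun m hm => (Subgroup.mem_centralizer_iff.mp hm.2 x hx).symm
  have h4 : φ.C.relIndex M2 ≤ φ.C.relIndex M := by
    rw [h1, h2]
    exact Subgroup.relIndex_le_of_le_left h3 (Subgroup.index_ne_zero_of_finite)
  rw [← Subgroup.relIndex_mul_relIndex _ _ _ hCM hMM2] at h4
  refine le_antisymm (Subgroup.relIndex_eq_one.mp ?_) hMM2
  have h5 := Nat.pos_of_ne_zero (φ.C_relIndex_ne_zero M)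
  have h6 : 0 < M.relIndex M2 := Nat.pos_of_ne_zero Subgroup.index_ne_zero_of_finite
  exact le_antisymm (Nat.le_of_mul_le_mul_left (by rwa [mul_one]) h5) h6

/-- The order modulo `C` of an element of `F` is squarefree. -/
theorem squarefree_order {n : A} (hn : n ∈ φ.F) : Squarefree (orderOf (n : A ⧸ φ.C)) := by
  rw [Nat.squarefree_iff_prime_squarefree]
  intro r hr hd
  obtain ⟨d, hd⟩ := hd
  have hopos : 0 < orderOf (n : A ⧸ φ.C) := orderOf_pos _
  have h1 : ((n ^ d) ^ r) ^ r ∈ φ.C := by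
    rw [← pow_mul, ← pow_mul, show d * (r * r) = orderOf (n : A ⧸ φ.C) by rw [hd]; ring,
      ← QuotientGroup.eq_one_iff, QuotientGroup.mk_pow]
    exact pow_orderOf_eq_one _
  have h2 := φ.pow_prime_mem (φ.F.pow_mem hn d) h1
  rw [← pow_mul, ← QuotientGroup.eq_one_iff, QuotientGroup.mk_pow, ← orderOf_dvd_iff_pow_eq_one, hd] at h2
  have hd0 : 0 < d := by
    rcases Nat.eq_zero_or_pos d with h | h
    · rw [hd, h, mul_zero] at hopos; omega
    · exact h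
  have h3 := Nat.le_of_dvd (Nat.mul_pos hd0 hr.pos) h2
  have h4 := hr.two_le
  nlinarith [Nat.mul_pos hr.pos hd0]

/-- An element outside a subgroup has a power of prime order modulo `C` outside it. -/
theorem exists_prime_power_notMem {Z M : Subgroup A} (hCM : φ.C ≤ M) (hZF : Z ≤ φ.F) {n : A} (hn : n ∈ Z)
    (hnM : n ∉ M) : ∃ (r i : ℕ), r.Prime ∧ n ^ i ∈ Z ∧ n ^ i ∉ M ∧ (n ^ i) ^ r ∈ φ.C := by
  suffices h : ∀ o : ℕ, ∀ x ∈ Z, x ∉ M → orderOf (x : A ⧸ φ.C) = o → ∃ j : ℕ, ∃ r : ℕ, r.Prime ∧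
      x ^ j ∉ M ∧ (x ^ j) ^ r ∈ φ.C by
    obtain ⟨j, r, hr, h1, h2⟩ := h _ n hn hnM rfl
    exact ⟨r, j, hr, pow_mem hn j, h1, h2⟩
  intro o
  induction o using Nat.strong_induction_on with
  | _ o ih =>
    intro x hx hxM ho
    have ho1 : o ≠ 1 := fun e => hxM (hCM ((QuotientGroup.eq_one_iff x).mp (orderOf_eq_one_iff.mp (ho.trans e))))
    obtain ⟨r, hr, hro⟩ := Nat.exists_prime_and_dvd ho1
    have hopos : 0 < o := ho ▸ orderOf_pos _
    by_cases h1 : x ^ (o / r) ∈ M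
    · by_cases h2 : x ^ r ∈ M
      · refine absurd (mem_of_coprime_pow ?_ h2 h1) hxM
        have hsf := φ.squarefree_order (hZF hx)
        rw [ho] at hsf
        obtain ⟨q, hq⟩ := hro
        rw [hq, Nat.mul_div_cancel_left _ hr.pos]
        exact Nat.coprime_of_squarefree_mul (hq ▸ hsf)
      · obtain ⟨j, r', hr', hj, hj'⟩ := ih (o / r) (Nat.div_lt_self hopos hr.one_lt) (x ^ r) (pow_mem hx r) h2 (by
          rw [QuotientGroup.mk_pow, orderOf_pow_of_dvd hr.ne_zero (by rw [ho]; exact hro), ho])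
        exact ⟨r * j, r', hr', by rwa [pow_mul], by rwa [pow_mul]⟩
    · refine ⟨o / r, r, hr, h1, ?_⟩
      rw [← pow_mul, Nat.div_mul_cancel hro, ← QuotientGroup.eq_one_iff, QuotientGroup.mk_pow, ← ho]
      exact pow_orderOf_eq_one _

/-- A split abelian subgroup has a common eigenvector. -/
theorem exists_eigenvector (Z : Subgroup A) (hCZ : φ.C ≤ Z) (hZF : Z ≤ φ.F)
    (hcomm : ∀ x ∈ Z, ∀ y ∈ Z, x * y = y * x) (hsplit : ∀ z ∈ Z, φ.IsSplit z) :
    ∃ v : V, v ≠ 0 ∧ ∀ z ∈ Z, ∃ r : φ.K, z • v = r • v := by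
  classical
  obtain ⟨M, ⟨hCM, hMZ, v, hv, heig⟩, hmax⟩ := Set.Finite.exists_maximalFor id
    {M : Subgroup A | φ.C ≤ M ∧ M ≤ Z ∧ ∃ v : V, v ≠ 0 ∧ ∀ z ∈ M, ∃ r : φ.K, z • v = r • v} (Set.toFinite _)
    ⟨φ.C, le_rfl, hCZ, by
      obtain ⟨x, hx⟩ := exists_ne (0 : V)
      exact ⟨x, hx, fun z hz => ⟨φ.scal z hz, (φ.scal_smul z hz x).symm⟩⟩⟩
  by_cases hMeq : Z ≤ M
  · exact ⟨v, hv, fun z hz => heig z (hMeq hz)⟩
  exfalso
  obtain ⟨n, hn, hnM⟩ := SetLike.not_le_iff_exists.mp hMeq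
  obtain ⟨r, i, hr, hxZ, hxM, hxr⟩ := φ.exists_prime_power_notMem hCM hZF hn hnM
  set x := n ^ i
  have hxF : x ∈ φ.F := hZF hxZ
  -- a primitive root of unity
  obtain ⟨t, ht, htx⟩ : ∃ t ∈ φ.F, ⁅t, x⁆ ≠ 1 := by
    by_contra h
    push Not at h
    exact hxM (hCM (φ.center_eq.le ⟨hxF, Subgroup.mem_centralizer_iff.mpr fun f hf =>
      commutatorElement_eq_one_iff_mul_comm.mp (h f hf)⟩))
  set ζ := φ.scal ⁅t, x⁆ (φ.comm_mem t ht x hxF) with hζdef
  have hζ1 : ζ ≠ 1 := fun e => htx (φ.scal_eq_one _ e)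
  have hζr : ζ ^ r = 1 := φ.scal_comm_pow hxF ht hxr
  haveI := Fact.mk hr
  have hζord : orderOf ζ = r := orderOf_eq_prime hζr hζ1
  -- normalise
  obtain ⟨μ, hμ0, hμ⟩ : ∃ μ : φ.K, μ ≠ 0 ∧ φ.scal (x ^ r) hxr * μ ^ r = 1 := by
    rcases hr.eq_two_or_odd' with rfl | hodd
    · exact hsplit x hxZ hxr
    · obtain ⟨μ, ε, hμ0, hε, h⟩ := φ.exists_root_scalar hxF hr hxr
      rcases hε with rfl | ⟨e, -⟩
      · exact ⟨μ, hμ0, h⟩
      · exact absurd (e ▸ hodd) (by decide)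
  let T : V → V := fun y => μ • (x • y)
  have hTpow : ∀ (m : ℕ) (y : V), T^[m] y = μ ^ m • (x ^ m • y) := by
    intro m
    induction m with
    | zero => intro y; simp
    | succ m ih =>
      intro y
      rw [Function.iterate_succ_apply', ih]
      show μ • (x • (μ ^ m • (x ^ m • y))) = _
      rw [φ.L_smul (φ.F_le hxF), smul_smul, ← mul_smul x, ← pow_succ', ← pow_succ']
  have hTr : ∀ y, T^[r] y = y := fun y => by
    rw [hTpow, ← φ.scal_smul _ hxr, smul_smul, mul_comm, hμ, one_smul]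
  have hTadd : ∀ y y', T (y + y') = T y + T y' := fun y y' => by simp only [T, smul_add]
  have hTsmul : ∀ (c : φ.K) y, T (c • y) = c • T y := fun c y => by
    show μ • (x • (c • y)) = c • (μ • (x • y))
    rw [φ.L_smul (φ.F_le hxF), smul_comm]
  let Tl : V →ₗ[φ.K] V := { toFun := T, map_add' := hTadd, map_smul' := hTsmul }
  let w : ℕ → V := fun k => ∑ i ∈ Finset.range r, (ζ ^ k) ^ i • T^[i] v
  have hwT : ∀ k, T (w k) = (ζ ^ k)⁻¹ • w k := by
    intro k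
    have hz : (ζ ^ k) ^ r = 1 := by rw [← pow_mul, mul_comm, pow_mul, hζr, one_pow]
    have hz0 : ζ ^ k ≠ 0 := pow_ne_zero _ fun e => by rw [e, zero_pow hr.ne_zero] at hζr; exact zero_ne_one hζr
    rw [eq_inv_smul_iff₀ hz0]
    show ζ ^ k • Tl (∑ i ∈ Finset.range r, (ζ ^ k) ^ i • T^[i] v) = _
    rw [map_sum, Finset.smul_sum]
    let g : ℕ → V := fun i => (ζ ^ k) ^ i • T^[i] v
    have h1 : ∀ i, ζ ^ k • Tl ((ζ ^ k) ^ i • T^[i] v) = g (i + 1) := fun i => by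
      rw [map_smul, smul_smul, ← pow_succ']
      exact congrArg (fun y => (ζ ^ k) ^ (i + 1) • y) (Function.iterate_succ_apply' T i v).symm
    rw [Finset.sum_congr rfl fun i _ => h1 i]
    have h2 := Finset.sum_range_succ g r
    have h3 := Finset.sum_range_succ' g r
    have h4 : g r = g 0 := by simp only [g, hz, hTr, pow_zero, Function.iterate_zero, id_eq, one_smul]
    rw [h4] at h2
    exact add_right_cancel (h3.symm.trans h2)
  obtain ⟨k, hk⟩ : ∃ k, w k ≠ 0 := by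
    by_contra hall
    push Not at hall
    have hsum : ∑ k ∈ Finset.range r, w k = 0 := Finset.sum_eq_zero fun k _ => hall k
    simp only [w] at hsum
    rw [Finset.sum_comm, Finset.sum_eq_single_of_mem 0 (Finset.mem_range.mpr hr.pos)] at hsum
    · simp only [pow_zero, one_smul, Function.iterate_zero, id_eq, Finset.sum_const, Finset.card_range] at hsum
      rw [← Nat.cast_smul_eq_nsmul φ.K, smul_eq_zero] at hsum
      refine (hsum.resolve_right hv) |> fun h => ?_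
      have h2 : (orderOf ζ : φ.K) ≠ 0 := by
        intro e
        obtain ⟨q, hq⟩ := CharP.exists φ.K
        haveI := hq
        haveI hqp : Fact q.Prime := ⟨(CharP.char_is_prime φ.K q)⟩
        rw [hζord, CharP.cast_eq_zero_iff φ.K q r, Nat.prime_dvd_prime_iff_eq hqp.out hr] at e
        subst e
        refine hζ1 (frobenius_inj φ.K q ?_)
        rw [frobenius_def, frobenius_def, hζr, one_pow]
      exact h2 (hζord ▸ h)
    · intro i hi hi0
      have hne : ζ ^ i ≠ 1 := pow_ne_one_of_lt_orderOf hi0 (hζord.symm ▸ Finset.mem_range.mp hi)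
      rw [← Finset.sum_smul, Finset.sum_congr rfl fun k _ => (pow_right_comm ζ k i : (ζ ^ k) ^ i = (ζ ^ i) ^ k),
        geom_sum_eq hne, pow_right_comm, hζr, one_pow, sub_self, zero_div, zero_smul]
  -- extend
  let G : Subgroup A :=
    { carrier := {z | z ∈ Z ∧ ∃ c : φ.K, c ≠ 0 ∧ z • w k = c • w k}
      one_mem' := ⟨one_mem _, 1, one_ne_zero, by rw [one_smul, one_smul]⟩
      mul_mem' := fun {a b} ha hb => by
        obtain ⟨haZ, c, hc, e⟩ := ha
        obtain ⟨hbZ, d, hd, e'⟩ := hb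
        refine ⟨mul_mem haZ hbZ, d * c, mul_ne_zero hd hc, ?_⟩
        rw [mul_smul, e', φ.L_smul (φ.F_le (hZF haZ)), e, smul_smul]
      inv_mem' := fun {a} ha => by
        obtain ⟨haZ, c, hc, e⟩ := ha
        refine ⟨inv_mem haZ, c⁻¹, inv_ne_zero hc, ?_⟩
        rw [inv_smul_eq_iff, φ.L_smul (φ.F_le (hZF haZ)), e, smul_smul, inv_mul_cancel₀ hc, one_smul] }
  have hMG : M ≤ G := fun z hz => by
    obtain ⟨c, hc⟩ := heig z hz
    have hc0 : c ≠ 0 := fun e => hv ((smul_eq_zero_iff_eq z).mp (by rw [hc, e, zero_smul]))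
    refine ⟨hMZ hz, c, hc0, ?_⟩
    have hzT : ∀ i, z • T^[i] v = c • T^[i] v := fun i => by
      rw [hTpow, φ.L_smul (φ.F_le (hZF (hMZ hz))), ← mul_smul, hcomm z (hMZ hz) _ (pow_mem hxZ i), mul_smul, hc,
        φ.L_smul (φ.F_le (φ.F.pow_mem hxF i)), smul_comm]
    simp only [w, Finset.smul_sum]
    exact Finset.sum_congr rfl fun i _ => by rw [φ.L_smul (φ.F_le (hZF (hMZ hz))), hzT, smul_comm]
  have hxG : x ∈ G := by
    have hz0 : ζ ^ k ≠ 0 := pow_ne_zero _ fun e => by rw [e, zero_pow hr.ne_zero] at hζr; exact zero_ne_one hζr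
    refine ⟨hxZ, μ⁻¹ * (ζ ^ k)⁻¹, mul_ne_zero (inv_ne_zero hμ0) (inv_ne_zero hz0), ?_⟩
    rw [mul_smul, ← hwT, eq_inv_smul_iff₀ hμ0]
  refine hxM (hmax (j := G) ⟨hCM.trans hMG, fun z hz => hz.1, w k, hk, fun z hz => ?_⟩ hMG hxG)
  obtain ⟨-, c, -, e⟩ := hz
  exact ⟨c, e⟩

/-- The subgroups for the block argument. -/
theorem exists_pivot (hneg : (-1 : φ.K) ≠ 1) :
    ∃ (Zc Zp : Subgroup A) (v : V), φ.C ≤ Zc ∧ Zc ≤ Zp ∧ Zp = φ.F ⊓ Subgroup.centralizer (Zc : Set A) ∧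
      v ≠ 0 ∧ (∀ z ∈ Zc, ∃ r : φ.K, z • v = r • v) ∧
      ((Zp = Zc ∧ ∀ f ∈ φ.F, f ^ 2 ∈ φ.C → f ∈ Zp) ∨
        ∃ (j s : A) (hj : j ∈ φ.F) (hs : s ∈ φ.F) (hj2 : j ^ 2 ∈ φ.C) (hs2 : s ^ 2 ∈ φ.C) (l m ε : φ.K),
          j ∈ Zp ∧ s ∈ Zp ∧ l ≠ 0 ∧ m ≠ 0 ∧ φ.scal (j ^ 2) hj2 * l ^ 2 = ε ∧ φ.scal (s ^ 2) hs2 * m ^ 2 = ε ∧
          φ.scal ⁅s, j⁆ (φ.comm_mem s hs j hj) = -1 ∧
          (ε = 1 ∨ ε = -1 ∧ ¬ IsSquare (-1 : φ.K)) ∧
          ∀ π ∈ Zp, ∃ z ∈ Zc, π = z ∨ π = z * j ∨ π = z * s ∨ π = z * (j * s)) := by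
  classical
  obtain ⟨M, ⟨hCM, hMF, hMc, hMs⟩, hmax⟩ := Set.Finite.exists_maximalFor id
    {M : Subgroup A | φ.C ≤ M ∧ M ≤ φ.F ∧ (∀ x ∈ M, ∀ y ∈ M, x * y = y * x) ∧ ∀ z ∈ M, φ.IsSplit z}
    (Set.toFinite _) ⟨φ.C, le_rfl, φ.C_le, φ.C_comm, fun z hz h =>
      ⟨(φ.scal z hz)⁻¹, inv_ne_zero (φ.scal_ne_zero z hz), by
        rw [show φ.scal (z ^ 2) h = φ.scal z hz ^ 2 from φ.scal_pow z hz 2, inv_pow,
          mul_inv_cancel₀ (pow_ne_zero _ (φ.scal_ne_zero z hz))]⟩⟩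
  set N := φ.F ⊓ Subgroup.centralizer (M : Set A) with hN
  have hMN : M ≤ N := le_inf hMF fun m hm => Subgroup.mem_centralizer_iff.mpr fun y hy => hMc y hy m hm
  obtain ⟨v, hv, heig⟩ := φ.exists_eigenvector M hCM hMF hMc hMs
  -- elements of prime order in the centraliser
  have hadd : ∀ x ∈ N, ∀ r : ℕ, r.Prime → x ^ r ∈ φ.C → (r = 2 → φ.IsSplit x) → x ∈ M := by
    intro x hx r hr hxr hsp
    by_contra hxM
    haveI := Fact.mk hr
    let X : Subgroup A := M ⊔ Subgroup.zpowers x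
    have hXc : ∀ a ∈ X, ∀ b ∈ X, a * b = b * a := by
      have h := Subgroup.isMulCommutative_closure (k := (M : Set A) ∪ {x}) (by
        rintro a (ha | ha) b (hb | hb)
        · exact hMc a ha b hb
        · rw [Set.mem_singleton_iff.mp hb]; exact Subgroup.mem_centralizer_iff.mp hx.2 a ha
        · rw [Set.mem_singleton_iff.mp ha]; exact (Subgroup.mem_centralizer_iff.mp hx.2 b hb).symm
        · rw [Set.mem_singleton_iff.mp ha, Set.mem_singleton_iff.mp hb])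
      have hX : X = Subgroup.closure ((M : Set A) ∪ {x}) := by
        simp only [X, Subgroup.closure_union, Subgroup.closure_eq, Subgroup.zpowers_eq_closure]
      intro a ha b hb
      rw [hX] at ha hb
      exact congrArg Subtype.val (h.is_comm.comm (⟨a, ha⟩ : Subgroup.closure _) ⟨b, hb⟩)
    refine hxM (hmax (j := X) ⟨hCM.trans le_sup_left, sup_le hMF (Subgroup.zpowers_le.mpr hx.1), hXc, ?_⟩
      le_sup_left (Subgroup.mem_sup_right (Subgroup.mem_zpowers x)))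
    intro z hz hz2
    have hx1 : ∀ i : ℤ, ¬ ((r : ℤ) ∣ i) → x ^ i ∈ M → False := fun i hi hxi => by
      have hc : IsCoprime i (r : ℤ) := ((Nat.prime_iff_prime_int.mp hr).coprime_iff_not_dvd.mpr hi).symm
      obtain ⟨a, b, hab⟩ := hc
      apply hxM
      have h1 : x ^ (r : ℤ) ∈ M := by rw [zpow_natCast]; exact hCM hxr
      have := mul_mem (zpow_mem hxi a) (zpow_mem h1 b)
      rwa [← zpow_mul, ← zpow_mul, ← zpow_add, mul_comm i a, mul_comm (r : ℤ) b, hab, zpow_one] at this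
    obtain ⟨μ, hμ, i, rfl⟩ : ∃ μ ∈ M, ∃ i : ℤ, μ * x ^ i = z := by
      let G : Subgroup A :=
        { carrier := {y | ∃ μ ∈ M, ∃ i : ℤ, μ * x ^ i = y}
          one_mem' := ⟨1, one_mem _, 0, by simp⟩
          mul_mem' := fun {y y'} hy hy' => by
            obtain ⟨μ, hμ, i, rfl⟩ := hy
            obtain ⟨μ', hμ', i', rfl⟩ := hy'
            refine ⟨μ * μ', mul_mem hμ hμ', i + i', ?_⟩
            have hc : Commute μ' x := Subgroup.mem_centralizer_iff.mp hx.2 μ' hμ'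
            rw [zpow_add, mul_assoc, mul_assoc, ← mul_assoc μ' (x ^ i), (hc.zpow_right i).eq]
            group
          inv_mem' := fun {y} hy => by
            obtain ⟨μ, hμ, i, rfl⟩ := hy
            refine ⟨μ⁻¹, inv_mem hμ, -i, ?_⟩
            have hc : Commute μ x := Subgroup.mem_centralizer_iff.mp hx.2 μ hμ
            rw [mul_inv_rev, zpow_neg, ((hc.zpow_right i).inv_inv).eq] }
      have hle : X ≤ G := sup_le (fun μ hμ => ⟨μ, hμ, 0, by simp⟩)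
        (Subgroup.zpowers_le.mpr ⟨1, one_mem _, 1, by simp⟩)
      exact hle hz
    have hc : Commute μ x := Subgroup.mem_centralizer_iff.mp hx.2 μ hμ
    by_cases hri : (r : ℤ) ∣ i
    · obtain ⟨q, rfl⟩ := hri
      have hxi : x ^ ((r : ℤ) * q) ∈ φ.C := by rw [zpow_mul, zpow_natCast]; exact zpow_mem hxr q
      exact hMs _ (mul_mem hμ (hCM hxi)) hz2
    have h2i : x ^ (2 * i) ∈ M := by
      have h := hz2
      rw [(hc.zpow_right i).mul_pow, ← zpow_natCast (x ^ i), ← zpow_mul, mul_comm i] at h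
      simpa using mul_mem (inv_mem (pow_mem hμ 2)) (hCM h)
    rcases hr.eq_two_or_odd' with rfl | hodd
    · obtain ⟨q, rfl | rfl⟩ := Int.even_or_odd' i
      · exact absurd ⟨q, by norm_num⟩ hri
      have hxq : x ^ (2 * q) ∈ φ.C := by
        rw [zpow_mul, show x ^ (2 : ℤ) = x ^ 2 by norm_cast]
        exact zpow_mem hxr q
      have hμ2 : μ ^ 2 ∈ φ.C := by
        have h := hz2
        rw [(hc.zpow_right (2 * q + 1)).mul_pow] at h
        have hxx : (x ^ (2 * q + 1)) ^ 2 ∈ φ.C := by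
          rw [← zpow_natCast, ← zpow_mul, mul_comm, zpow_mul, zpow_natCast]
          exact zpow_mem hxr _
        simpa using mul_mem h (inv_mem hxx)
      set c := μ * x ^ (2 * q) with hcdef
      have hcM : c ∈ M := mul_mem hμ (hCM hxq)
      have hcx : μ * x ^ (2 * q + 1) = c * x := by rw [hcdef, zpow_add_one]; group
      have hcx' : Commute c x := (hc.mul_left ((Commute.refl x).zpow_left _))
      have hc2 : c ^ 2 ∈ φ.C := by
        rw [hcdef, (hc.zpow_right (2 * q)).mul_pow]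
        exact mul_mem hμ2 (pow_mem hxq 2)
      obtain ⟨t, ht, e⟩ := hMs c hcM hc2
      obtain ⟨u, hu, e'⟩ := hsp rfl hxr
      refine ⟨t * u, mul_ne_zero ht hu, ?_⟩
      have hz2' : (c * x) ^ 2 ∈ φ.C := hcx ▸ hz2
      rw [φ.scal_congr (congrArg (· ^ 2) hcx) hz2 hz2', φ.scal_sq_mul (hMF hcM) hx.1 hc2 hxr,
        φ.scal_of_commute hx.1 (hMF hcM) hcx'.eq.symm, mul_pow]
      linear_combination (φ.scal (x ^ 2) hxr * u ^ 2) * e + e'
    · refine (hx1 _ ?_ h2i).elim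
      intro hd
      rcases (Nat.prime_iff_prime_int.mp hr).dvd_or_dvd hd with h | h
      · have := Nat.le_of_dvd two_pos (Int.natCast_dvd_natCast.mp (by exact_mod_cast h))
        have := hr.two_le
        obtain ⟨j, hj⟩ := hodd
        omega
      · exact hri h
  -- two-part
  have hQ : ∀ π ∈ N, ∃ μ ∈ M, ∃ q ∈ N, q ^ 2 ∈ φ.C ∧ π = μ * q := by
    intro π hπ
    have hπF := hπ.1
    set o := orderOf (π : A ⧸ φ.C) with ho
    have hoC : π ^ o ∈ φ.C := by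
      rw [← QuotientGroup.eq_one_iff, QuotientGroup.mk_pow]; exact pow_orderOf_eq_one _
    have hodd : ∀ m : ℕ, Odd m → ∀ x ∈ N, x ^ m ∈ φ.C → x ∈ M := by
      intro m hm x hx hxm
      by_contra hxM
      obtain ⟨r, i, hr, hxiN, hxiM, hxir⟩ := φ.exists_prime_power_notMem hCM (inf_le_left : N ≤ φ.F) hx hxM
      rcases hr.eq_two_or_odd' with rfl | hro
      · apply hxiM
        refine hCM (mem_of_coprime_pow (Nat.coprime_two_left.mpr hm) hxir ?_)
        rw [← pow_mul, mul_comm, pow_mul]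
        exact pow_mem hxm i
      · exact hxiM (hadd _ hxiN r hr hxir fun e => absurd (e ▸ hro) (by decide))
    obtain ⟨m, hm, hπm⟩ : ∃ m : ℕ, Odd m ∧ (π ^ m) ^ 2 ∈ φ.C := by
      have hsf := φ.squarefree_order hπF
      rcases Nat.even_or_odd o with ⟨m, hm⟩ | h
      · refine ⟨m, ?_, by rw [← pow_mul, mul_two, ← hm]; exact hoC⟩
        by_contra hne
        obtain ⟨q, hq⟩ := Nat.not_odd_iff_even.mp hne
        have := hsf 2 ⟨q, by omega⟩
        exact absurd (Nat.isUnit_iff.mp this) (by norm_num)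
      · exact ⟨o, h, pow_mem hoC 2⟩
    have h2 : π ^ 2 ∈ M := hodd m hm _ (pow_mem hπ 2) (by rwa [← pow_mul, mul_comm, pow_mul])
    obtain ⟨k, hk⟩ := hm
    refine ⟨((π ^ 2) ^ k)⁻¹, inv_mem (pow_mem h2 k), π ^ m, pow_mem hπ m, hπm, ?_⟩
    rw [hk, pow_succ π (2 * k), pow_mul]; group
  by_cases hNM : N ≤ M
  · have hNeq : N = M := le_antisymm hNM hMN
    by_cases htwo : ∀ f ∈ M, f ^ 2 ∈ φ.C → f ∈ φ.C
    · refine ⟨M, M, v, hCM, le_rfl, hNeq.symm, hv, heig, Or.inl ⟨rfl, fun f hf hf2 => ?_⟩⟩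
      refine hNM ⟨hf, Subgroup.mem_centralizer_iff.mpr fun z hz => ?_⟩
      refine φ.commute_of_scal (hMF hz) hf ?_
      rcases φ.comm_pm hf (hMF hz) hf2 with h | h
      · exact h
      exfalso
      -- the order of z modulo C would be even
      set o := orderOf (z : A ⧸ φ.C) with ho
      have hoC : z ^ o ∈ φ.C := by rw [← QuotientGroup.eq_one_iff, QuotientGroup.mk_pow]; exact pow_orderOf_eq_one _
      have hcpow : φ.scal ⁅f, z⁆ (φ.comm_mem f hf z (hMF hz)) ^ o = 1 := φ.scal_comm_pow (hMF hz) hf hoC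
      have h2 : φ.scal ⁅f, z⁆ (φ.comm_mem f hf z (hMF hz)) = -1 := by
        rw [φ.comm_swap hf (hMF hz), h, inv_neg, inv_one]
      rw [h2] at hcpow
      rcases Nat.even_or_odd o with ⟨m, hm⟩ | hodd
      · have hzm : z ^ m ∈ φ.C := htwo _ (pow_mem hz m) (by rw [← pow_mul, mul_two, ← hm]; exact hoC)
        rw [← QuotientGroup.eq_one_iff, QuotientGroup.mk_pow, ← orderOf_dvd_iff_pow_eq_one, ← ho] at hzm
        have hop : 0 < o := orderOf_pos _
        have := Nat.le_of_dvd (by omega) hzm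
        omega
      · rw [hodd.neg_one_pow] at hcpow
        exact hneg hcpow
    push Not at htwo
    obtain ⟨j, hjM, hj2, hjC⟩ := htwo
    have hjF := hMF hjM
    obtain ⟨t, ht, htj⟩ : ∃ t ∈ φ.F, ⁅t, j⁆ ≠ 1 := by
      by_contra h
      push Not at h
      exact hjC (φ.center_eq.le ⟨hjF, Subgroup.mem_centralizer_iff.mpr fun f hf =>
        commutatorElement_eq_one_iff_mul_comm.mp (h f hf)⟩)
    have htj' : φ.scal ⁅t, j⁆ (φ.comm_mem t ht j hjF) = -1 :=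
      (φ.comm_pm hjF ht hj2).resolve_left fun e => htj (φ.scal_eq_one _ e)
    set o := orderOf (t : A ⧸ φ.C) with ho
    have hoC : t ^ o ∈ φ.C := by rw [← QuotientGroup.eq_one_iff, QuotientGroup.mk_pow]; exact pow_orderOf_eq_one _
    obtain ⟨k, hk, hk2⟩ : ∃ k : ℕ, Odd k ∧ (t ^ k) ^ 2 ∈ φ.C := by
      have hsf := φ.squarefree_order ht
      rcases Nat.even_or_odd o with ⟨m, hm⟩ | h
      · refine ⟨m, ?_, by rw [← pow_mul, mul_two, ← hm]; exact hoC⟩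
        by_contra hne
        obtain ⟨q, hq⟩ := Nat.not_odd_iff_even.mp hne
        have := hsf 2 ⟨q, by omega⟩
        exact absurd (Nat.isUnit_iff.mp this) (by norm_num)
      · exact ⟨o, h, pow_mem hoC 2⟩
    have htk : ∀ k, φ.scal ⁅t ^ k, j⁆ (φ.comm_mem _ (φ.F.pow_mem ht k) j hjF) =
        φ.scal ⁅t, j⁆ (φ.comm_mem t ht j hjF) ^ k := by
      intro k
      induction k with
      | zero => exact (φ.scal_congr (by rw [pow_zero, commutatorElement_one_left]) _ φ.C.one_mem).trans φ.scal_one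
      | succ k ih =>
        refine (φ.scal_congr (show ⁅t ^ (k + 1), j⁆ = ⁅t ^ k * t, j⁆ by rw [pow_succ]) _
          (φ.comm_mem _ (φ.F.mul_mem (φ.F.pow_mem ht k) ht) j hjF)).trans ?_
        rw [φ.comm_scal_mul_left (φ.F.pow_mem ht k) ht hjF, ih, ← pow_succ]
    obtain ⟨l, hl, hle⟩ := hMs j hjM hj2
    set s0 := t ^ k with hs0
    have hs0F : s0 ∈ φ.F := φ.F.pow_mem ht k
    have hs0j : φ.scal ⁅s0, j⁆ (φ.comm_mem _ hs0F j hjF) = -1 := by rw [htk, htj', hk.neg_one_pow]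
    obtain ⟨m0, ε0, hm0, hε0, he0⟩ := φ.exists_root_scalar hs0F Nat.prime_two hk2
    obtain ⟨s, hsF, hs2, m, hm, hme, hsj⟩ : ∃ (s : A) (hs : s ∈ φ.F) (hs2 : s ^ 2 ∈ φ.C) (m : φ.K), m ≠ 0 ∧
        φ.scal (s ^ 2) hs2 * m ^ 2 = 1 ∧ φ.scal ⁅s, j⁆ (φ.comm_mem s hs j hjF) = -1 := by
      rcases hε0 with rfl | ⟨-, rfl⟩
      · exact ⟨s0, hs0F, hk2, m0, hm0, he0, hs0j⟩
      · have hjs2 : (s0 * j) ^ 2 ∈ φ.C := by
          rw [φ.mul_pow_eq hs0F hjF]
          exact mul_mem (mul_mem hk2 hj2) (pow_mem (φ.comm_mem j hjF s0 hs0F) _)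
        refine ⟨s0 * j, mul_mem hs0F hjF, hjs2, m0 * l, mul_ne_zero hm0 hl, ?_, ?_⟩
        · rw [φ.scal_sq_mul hs0F hjF hk2 hj2, φ.comm_swap hjF hs0F, hs0j, inv_neg, inv_one]
          linear_combination -(φ.scal (j ^ 2) hj2 * l ^ 2) * he0 + hle
        · rw [φ.comm_scal_mul_left hs0F hjF hjF, hs0j, φ.scal_of_commute hjF hjF rfl, mul_one]
    let Zc : Subgroup A := M ⊓ Subgroup.centralizer ({s} : Set A)
    have hcs : ∀ z ∈ Zc, z * s = s * z := fun z hz => (Subgroup.mem_centralizer_singleton_iff.mp hz.2)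
    have hCZ : φ.C ≤ Zc := le_inf hCM fun c hc =>
      Subgroup.mem_centralizer_singleton_iff.mpr (φ.comm_C_L hc (φ.F_le hsF))
    have hsplit : ∀ μ ∈ M, μ ∈ Zc ∨ μ * j ∈ Zc := by
      intro μ hμ
      rcases φ.comm_pm hsF (hMF hμ) hs2 with h | h
      · exact Or.inl ⟨hμ, Subgroup.mem_centralizer_singleton_iff.mpr (φ.commute_of_scal (hMF hμ) hsF h)⟩
      · refine Or.inr ⟨mul_mem hμ hjM, Subgroup.mem_centralizer_singleton_iff.mpr
          (φ.commute_of_scal (mul_mem (hMF hμ) hjF) hsF ?_)⟩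
        rw [φ.comm_scal_mul_left (hMF hμ) hjF hsF, h, φ.comm_swap hjF hsF, hsj, inv_neg, inv_one]
        ring
    let Zp := φ.F ⊓ Subgroup.centralizer (Zc : Set A)
    refine ⟨Zc, Zp, v, hCZ, ?_, rfl, hv, fun z hz => heig z hz.1, Or.inr ⟨j, s, hjF, hsF, hj2, hs2, l, m, 1,
      ⟨hjF, Subgroup.mem_centralizer_iff.mpr fun z hz => hMc z hz.1 j hjM⟩,
      ⟨hsF, Subgroup.mem_centralizer_iff.mpr fun z hz => hcs z hz⟩, hl, hm, hle, hme, hsj, Or.inl rfl, ?_⟩⟩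
    · exact le_inf (fun z hz => hMF hz.1) fun z hz =>
        Subgroup.mem_centralizer_iff.mpr fun y hy => hMc y hy.1 z hz.1
    intro π hπ
    have hsc : ∀ z ∈ Zc, z * s = s * z := hcs
    -- adjust to commute with `j`
    obtain ⟨π', e, hπ', hje, hee⟩ : ∃ π' e, π = π' * e ∧ π' * j = j * π' ∧ (e = 1 ∨ e = s) := by
      rcases φ.comm_pm hjF hπ.1 hj2 with h | h
      · exact ⟨π, 1, (mul_one π).symm, φ.commute_of_scal hπ.1 hjF h, Or.inl rfl⟩
      · refine ⟨π * s⁻¹, s, (inv_mul_cancel_right π s).symm, φ.commute_of_scal (mul_mem hπ.1 (inv_mem hsF)) hjF ?_, Or.inr rfl⟩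
        have h2 := φ.comm_scal_mul_left (mul_mem hπ.1 (inv_mem hsF)) hsF hjF
        rw [hsj] at h2
        have h3 := (φ.scal_congr (show ⁅π * s⁻¹ * s, j⁆ = ⁅π, j⁆ by rw [inv_mul_cancel_right]) _
          (φ.comm_mem π hπ.1 j hjF)).symm.trans h2
        rw [h, mul_neg_one, neg_inj] at h3
        exact h3.symm
    have heZp : e ∈ Zp := by
      rcases hee with rfl | rfl
      · exact one_mem _
      · exact ⟨hsF, Subgroup.mem_centralizer_iff.mpr fun z hz => hsc z hz⟩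
    have hπ'Zp : π' ∈ Zp := by
      have : π' = π * e⁻¹ := by rw [hπ', mul_inv_cancel_right]
      rw [this]; exact mul_mem hπ (inv_mem heZp)
    have hπ'M : π' ∈ M := hNM ⟨hπ'Zp.1, Subgroup.mem_centralizer_iff.mpr fun μ hμ => by
      rcases hsplit μ hμ with h | h
      · exact Subgroup.mem_centralizer_iff.mp hπ'Zp.2 μ h
      · have h1 := Subgroup.mem_centralizer_iff.mp hπ'Zp.2 _ h
        calc μ * π' = μ * j * π' * j⁻¹ := by rw [mul_assoc μ j, ← hje, ← mul_assoc, mul_inv_cancel_right]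
          _ = π' * μ := by rw [h1]; group⟩
    rcases hsplit π' hπ'M with h | h
    · rcases hee with rfl | rfl
      · exact ⟨π', h, Or.inl (by rw [hπ', mul_one])⟩
      · exact ⟨π', h, Or.inr (Or.inr (Or.inl hπ'))⟩
    · have hj2' : j * j ∈ φ.C := by rwa [← sq]
      refine ⟨π' * j * (j * j)⁻¹, mul_mem h (hCZ (inv_mem hj2')), ?_⟩
      rcases hee with rfl | rfl
      · exact Or.inr (Or.inl (by rw [hπ']; group))
      · exact Or.inr (Or.inr (Or.inr (by rw [hπ']; group)))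
  -- the anisotropic case
  obtain ⟨π, hπ, hπM⟩ := SetLike.not_le_iff_exists.mp hNM
  obtain ⟨μ, hμ, j, hjN, hj2, rfl⟩ := hQ π hπ
  have hjM : j ∉ M := fun h => hπM (mul_mem hμ h)
  have hns : ∀ q, q ∈ N → q ∉ M → ∀ h : q ^ 2 ∈ φ.C, ∃ t : φ.K, t ≠ 0 ∧ φ.scal (q ^ 2) h * t ^ 2 = -1 := by
    intro q hq hqM h
    obtain ⟨t, ε, ht, hε, he⟩ := φ.exists_root_scalar hq.1 Nat.prime_two h
    rcases hε with rfl | ⟨-, rfl⟩
    · exact absurd (hadd q hq 2 Nat.prime_two h fun _ _ => ⟨t, ht, he⟩) hqM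
    · exact ⟨t, ht, he⟩
  obtain ⟨l, hl, hle⟩ := hns j hjN hjM hj2
  have hnsq : ¬ IsSquare (-1 : φ.K) := by
    rintro ⟨i, hi⟩
    refine hjM (hadd j hjN 2 Nat.prime_two hj2 fun _ _ => ⟨l * i, mul_ne_zero hl fun e => ?_, ?_⟩)
    · rw [e, mul_zero, neg_eq_zero] at hi; exact one_ne_zero hi
    · linear_combination (i * i) * hle + hi
  have hdc := φ.centralizer_centralizer_le M hCM hMF
  obtain ⟨t, htN, htj⟩ : ∃ t ∈ N, ⁅t, j⁆ ≠ 1 := by
    by_contra h
    push Not at h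
    exact hjM (hdc.le ⟨hjN.1, Subgroup.mem_centralizer_iff.mpr fun t ht =>
      commutatorElement_eq_one_iff_mul_comm.mp (h t ht)⟩)
  obtain ⟨μ', hμ', s, hsN, hs2, rfl⟩ := hQ t htN
  have hjF := hjN.1
  have hsF := hsN.1
  have hsj : φ.scal ⁅s, j⁆ (φ.comm_mem s hsF j hjF) = -1 := (φ.comm_pm hjF hsF hj2).resolve_left fun e => htj (by
    have h1 : ⁅s, j⁆ = 1 := φ.scal_eq_one _ e
    have h2 := commutatorElement_eq_one_iff_mul_comm.mp h1
    have h3 := Subgroup.mem_centralizer_iff.mp hjN.2 μ' hμ'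
    refine commutatorElement_eq_one_iff_mul_comm.mpr ?_
    rw [mul_assoc, h2, ← mul_assoc, h3, mul_assoc])
  have hsM : s ∉ M := fun h => by
    have := φ.scal_of_commute hsF hjF (Subgroup.mem_centralizer_iff.mp hjN.2 s h)
    rw [hsj] at this
    exact hneg this
  obtain ⟨m, hm, hme⟩ := hns s hsN hsM hs2
  refine ⟨M, N, v, hCM, hMN, rfl, hv, heig, Or.inr ⟨j, s, hjF, hsF, hj2, hs2, l, m, -1, hjN, hsN, hl, hm, hle, hme,
    hsj, Or.inr ⟨rfl, hnsq⟩, ?_⟩⟩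
  intro π hπ
  obtain ⟨μ, hμ, q, hqN, hq2, rfl⟩ := hQ π hπ
  have hqF := hqN.1
  have hj' : φ.scal ⁅j, j⁆ (φ.comm_mem j hjF j hjF) = 1 := φ.scal_of_commute hjF hjF rfl
  have hs' : φ.scal ⁅s, s⁆ (φ.comm_mem s hsF s hsF) = 1 := φ.scal_of_commute hsF hsF rfl
  have hjs : φ.scal ⁅j, s⁆ (φ.comm_mem j hjF s hsF) = -1 := by rw [φ.comm_swap hjF hsF, hsj, inv_neg, inv_one]
  -- elements with central square commuting with `j` and `s` lie in `M`
  have hin : ∀ q' ∈ N, q' ^ 2 ∈ φ.C → q' * j = j * q' → q' * s = s * q' → q' ∈ M := by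
    intro q' hq' hq'2 hcj hcs'
    by_contra hq'M
    obtain ⟨u, hu, hue⟩ := hns q' hq' hq'M hq'2
    have h2 : (q' * j) ^ 2 ∈ φ.C := by rw [(show Commute q' j from hcj).mul_pow]; exact mul_mem hq'2 hj2
    have hqj : q' * j ∈ M := hadd _ (mul_mem hq' hjN) 2 Nat.prime_two h2 fun _ _ =>
      ⟨u * l, mul_ne_zero hu hl, by
        rw [φ.scal_sq_mul hq'.1 hjF hq'2 hj2, φ.scal_of_commute hjF hq'.1 hcj.symm]
        linear_combination (φ.scal (j ^ 2) hj2 * l ^ 2) * hue - hle⟩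
    have h3 : q' * j * s = s * (q' * j) := Subgroup.mem_centralizer_iff.mp hsN.2 _ hqj
    have h4 := φ.scal_of_commute (mul_mem hq'.1 hjF) hsF h3
    rw [φ.comm_scal_mul_left hq'.1 hjF hsF, φ.scal_of_commute hq'.1 hsF hcs', hjs, one_mul] at h4
    exact hneg h4
  have key : ∀ e, e ∈ N → e ^ 2 ∈ φ.C → ∀ (he : e ∈ φ.F),
      φ.scal ⁅q, j⁆ (φ.comm_mem q hqF j hjF) * φ.scal ⁅e, j⁆ (φ.comm_mem e he j hjF) = 1 →
      φ.scal ⁅q, s⁆ (φ.comm_mem q hqF s hsF) * φ.scal ⁅e, s⁆ (φ.comm_mem e he s hsF) = 1 →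
      ∃ z ∈ M, μ * q = z * e := by
    intro e heN he2 he h1 h2
    have hqe : q * e ∈ M := hin _ (mul_mem hqN heN)
      (by rw [φ.mul_pow_eq hqF he]; exact mul_mem (mul_mem hq2 he2) (pow_mem (φ.comm_mem e he q hqF) _))
      (φ.commute_of_scal (mul_mem hqF he) hjF (by rw [φ.comm_scal_mul_left hqF he hjF, h1]))
      (φ.commute_of_scal (mul_mem hqF he) hsF (by rw [φ.comm_scal_mul_left hqF he hsF, h2]))
    refine ⟨μ * (q * e) * (e ^ 2)⁻¹, mul_mem (mul_mem hμ hqe) (inv_mem (hCM he2)), ?_⟩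
    rw [sq]; group
  have hjs2 : (j * s) ^ 2 ∈ φ.C := by
    rw [φ.mul_pow_eq hjF hsF]; exact mul_mem (mul_mem hj2 hs2) (pow_mem (φ.comm_mem s hsF j hjF) _)
  rcases φ.comm_pm hjF hqF hj2 with a | a <;> rcases φ.comm_pm hsF hqF hs2 with b | b
  · obtain ⟨z, hz, e⟩ := key 1 (one_mem _) (by rw [one_pow]; exact one_mem _) (one_mem _)
      (by rw [a, φ.scal_of_commute (one_mem _) hjF (by rw [one_mul, mul_one]), one_mul])
      (by rw [b, φ.scal_of_commute (one_mem _) hsF (by rw [one_mul, mul_one]), one_mul])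
    exact ⟨z, hz, Or.inl (by rw [e, mul_one])⟩
  · obtain ⟨z, hz, e⟩ := key j hjN hj2 hjF (by rw [a, hj', one_mul]) (by rw [b, hjs]; ring)
    exact ⟨z, hz, Or.inr (Or.inl e)⟩
  · obtain ⟨z, hz, e⟩ := key s hsN hs2 hsF (by rw [a, hsj]; ring) (by rw [b, hs', one_mul])
    exact ⟨z, hz, Or.inr (Or.inr (Or.inl e))⟩
  · obtain ⟨z, hz, e⟩ := key (j * s) (mul_mem hjN hsN) hjs2 (mul_mem hjF hsF)
      (by rw [a, φ.comm_scal_mul_left hjF hsF hjF, hj', hsj]; ring)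
      (by rw [b, φ.comm_scal_mul_left hjF hsF hsF, hs', hjs]; ring)
    exact ⟨z, hz, Or.inr (Or.inr (Or.inr e))⟩

end CfsgLib.OddPair.Frame
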